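import Cfsg.Agent.Lib.LocalEven.DihedralProduct.Dih
import Cfsg.Agent.Lib.LocalEvenB.StrongFusion
import Cfsg.Agent.Lib.PGroup.Frattini
import Cfsg.Agent.Lib.Solvable.Cores

/-!
# A dihedral factor is strongly closed as soon as it is closed on involutions
-/

set_option autoImplicit false
set_option linter.unusedSectionVars false

namespace CfsgLib.LocalEven.DihedralProduct

open Subgroup
open scoped commutatorElement

variable {G : Type*} [Group G] [Finite G]

/-- Conjugates in `S` of involutions of `D` lie in `D`. -/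
def Table (S D : Subgroup G) : Prop :=
  ∀ k ∈ D, k * k = 1 → ∀ g : G, g * k * g⁻¹ ∈ S → g * k * g⁻¹ ∈ D

theorem char_le_normalizer {R : Subgroup G} (K : Subgroup R) [K.Characteristic] :
    normalizer (R : Set G) ≤ normalizer ((K.map R.subtype : Subgroup G) : Set G) := by
  refine le_normalizer_iff.2 fun g hg x hx => ?_
  obtain ⟨z, hz, rfl⟩ := hx
  have h := Subgroup.characteristic_iff_map_eq.mp (inferInstance : K.Characteristic)
    (R.normalizerMonoidHom ⟨g, hg⟩)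
  exact ⟨_, h.le ⟨z, hz, rfl⟩, rfl⟩

/-- The elements of `N` acting trivially on `H` modulo `M`. -/
def stab (N H M : Subgroup G) (hM : N ≤ normalizer (M : Set G)) : Subgroup G where
  carrier := {k | k ∈ N ∧ ∀ h ∈ H, ⁅k, h⁆ ∈ M}
  one_mem' := ⟨one_mem _, fun h _ => by simp⟩
  mul_mem' := fun {k l} hk hl => ⟨mul_mem hk.1 hl.1, fun h hh => by
    rw [show ⁅k * l, h⁆ = k * ⁅l, h⁆ * k⁻¹ * ⁅k, h⁆ by simp [commutatorElement_def, mul_assoc]]
    exact mul_mem (le_normalizer_iff.1 hM k hk.1 _ (hl.2 h hh)) (hk.2 h hh)⟩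
  inv_mem' := fun {k} hk => ⟨inv_mem hk.1, fun h hh => by
    rw [show ⁅k⁻¹, h⁆ = k⁻¹ * ⁅k, h⁆⁻¹ * k⁻¹⁻¹ by simp [commutatorElement_def, mul_assoc]]
    exact le_normalizer_iff.1 hM _ (inv_mem hk.1) _ (inv_mem (hk.2 h hh))⟩

theorem mem_stab {N H M : Subgroup G} {hM : N ≤ normalizer (M : Set G)} {k : G} :
    k ∈ stab N H M hM ↔ k ∈ N ∧ ∀ h ∈ H, ⁅k, h⁆ ∈ M := Iff.rfl

theorem stab_conj {N H M : Subgroup G} {hM : N ≤ normalizer (M : Set G)}
    (hH : N ≤ normalizer (H : Set G)) {n : G} (hn : n ∈ N) {k : G} (hk : k ∈ stab N H M hM) :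
    n * k * n⁻¹ ∈ stab N H M hM := by
  refine ⟨mul_mem (mul_mem hn hk.1) (inv_mem hn), fun h hh => ?_⟩
  rw [show ⁅n * k * n⁻¹, h⁆ = n * ⁅k, n⁻¹ * h * n⁻¹⁻¹⁆ * n⁻¹ by
    simp [commutatorElement_def, mul_assoc]]
  exact le_normalizer_iff.1 hM n hn _ (hk.2 _ (le_normalizer_iff.1 hH _ (inv_mem hn) _ hh))

/-- In a radical subgroup, a normal subgroup of the normaliser whose elements of odd order
centralise `H` meets the Sylow subgroup inside `H`. -/
theorem radical (S : Sylow 2 G) {H K : Subgroup G} (hHS : H ≤ (S : Subgroup G))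
    (hC : (S : Subgroup G) ⊓ centralizer (H : Set G) ≤ H)
    (hR : (Cfsg.pPrimePCore 2 ↥(normalizer (H : Set G))).map (normalizer (H : Set G)).subtype =
      H ⊔ centralizer (H : Set G))
    (hK : K ≤ normalizer (H : Set G))
    (hKn : ∀ n ∈ normalizer (H : Set G), ∀ k ∈ K, n * k * n⁻¹ ∈ K)
    (hodd : ∀ k ∈ K, Odd (orderOf k) → k ∈ centralizer (H : Set G)) :
    (S : Subgroup G) ⊓ K ≤ H := by
  set N := normalizer (H : Set G) with hN
  haveI : (K.subgroupOf N).Normal := ⟨fun x hx n => hKn n n.2 x hx⟩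
  set O := Cfsg.pPrimeCore 2 ↥N with hO
  have hKP : K.subgroupOf N ≤ Cfsg.pPrimePCore 2 ↥N := by
    rw [Cfsg.pPrimePCore, ← map_le_iff_le_comap]
    haveI : ((K.subgroupOf N).map (QuotientGroup.mk' O)).Normal :=
      Subgroup.Normal.map inferInstance _ (QuotientGroup.mk'_surjective _)
    refine Solvable.Cores.le_pCore ?_
    rintro ⟨_, k, hk, rfl⟩
    obtain ⟨i, m, hm, he⟩ := Nat.exists_eq_two_pow_mul_odd (orderOf_pos k).ne'
    have hk' : (k : G) ^ 2 ^ i ∈ centralizer (H : Set G) := by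
      refine hodd _ (pow_mem (mem_subgroupOf.1 hk) _) ?_
      rw [orderOf_pow_of_dvd (by positivity) ⟨m, by rw [Subgroup.orderOf_coe, he]⟩,
        Subgroup.orderOf_coe, he, Nat.mul_div_cancel_left _ (by positivity)]
      exact hm
    have h1 : k ^ 2 ^ i ∈ Cfsg.pPrimePCore 2 ↥N := by
      have h2 : (k : G) ^ 2 ^ i ∈ (Cfsg.pPrimePCore 2 ↥N).map N.subtype :=
        hR ▸ mem_sup_right hk'
      obtain ⟨k', hk'', e⟩ := h2
      rwa [show k ^ 2 ^ i = k' from Subtype.ext (by simpa using e.symm)]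
    obtain ⟨j, hj⟩ := (Solvable.Cores.isPGroup_pCore (G := ↥N ⧸ O) 2)
      ⟨QuotientGroup.mk' O (k ^ 2 ^ i), h1⟩
    refine ⟨i + j, Subtype.ext ?_⟩
    have h3 := congrArg Subtype.val hj
    simp only [SubmonoidClass.coe_pow, OneMemClass.coe_one] at h3
    simp only [SubmonoidClass.coe_pow, OneMemClass.coe_one]
    rwa [map_pow, ← pow_mul, ← pow_add] at h3
  intro s hs
  obtain ⟨hsS, hsK⟩ := mem_inf.1 hs
  have h1 : s ∈ H ⊔ centralizer (H : Set G) :=
    hR ▸ ⟨⟨s, hK hsK⟩, hKP (mem_subgroupOf.2 hsK), rfl⟩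
  obtain ⟨h, hh, c, hc, rfl⟩ :=
    (Coprime.mem_sup_of_le_normalizer (centralizer_le_normalizer _)).1 h1
  refine mul_mem hh (hC ⟨?_, hc⟩)
  have := mul_mem (inv_mem (hHS hh)) hsS
  rwa [inv_mul_cancel_left] at this

variable {S : Sylow 2 G} {H : Subgroup G} {a₁ x₁ : G} {r₁ : ℕ} {a₂ x₂ : G} {r₂ : ℕ}

/-- A term of the upper central series of `H`, inside `G`. -/
def zn (H : Subgroup G) (n : ℕ) : Subgroup G := (Subgroup.upperCentralSeries ↥H n).map H.subtype

theorem mem_zn_succ {n : ℕ} {v : G} :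
    v ∈ zn H (n + 1) ↔ v ∈ H ∧ ∀ h ∈ H, ⁅v, h⁆ ∈ zn H n := by
  constructor
  · rintro ⟨v, hv, rfl⟩
    exact ⟨v.2, fun h hh => ⟨⁅v, ⟨h, hh⟩⁆, Subgroup.mem_upperCentralSeries_succ_iff.1 hv _, rfl⟩⟩
  · rintro ⟨hv, h1⟩
    refine ⟨⟨v, hv⟩, Subgroup.mem_upperCentralSeries_succ_iff.2 fun y => ?_, rfl⟩
    obtain ⟨w, hw, e⟩ := h1 y y.2
    rwa [show ⁅(⟨v, hv⟩ : ↥H), y⁆ = w from Subtype.ext e.symm]

theorem zn_zero {v : G} (hv : v ∈ zn H 0) : v = 1 := by
  obtain ⟨w, hw, rfl⟩ := hv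
  rw [Subgroup.upperCentralSeries_zero, SetLike.mem_coe, Subgroup.mem_bot] at hw
  rw [hw]; rfl

theorem zn_le (n : ℕ) : zn H n ≤ H := map_subtype_le _

theorem normalizer_zn (n : ℕ) : normalizer (H : Set G) ≤ normalizer (zn H n : Set G) :=
  char_le_normalizer _

/-- The Frattini subgroup of `H`, inside `G`. -/
def fr (H : Subgroup G) : Subgroup G := (frattini H).map H.subtype

theorem normalizer_fr : normalizer (H : Set G) ≤ normalizer (fr H : Set G) :=
  char_le_normalizer _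

theorem sq_mem_fr (hH : IsPGroup 2 H) {w : G} (hw : w ∈ H) : w * w ∈ fr H :=
  ⟨⟨w, hw⟩ ^ 2, PGroup.Frattini.pow_mem_frattini hH _, by simp [pow_two]⟩

/-- An element of the Sylow subgroup moving every element of `H` by a square lies in `H`. -/
theorem mem_of_stab_fr (hHS : H ≤ (S : Subgroup G))
    (hC : (S : Subgroup G) ⊓ centralizer (H : Set G) ≤ H)
    (hR : (Cfsg.pPrimePCore 2 ↥(normalizer (H : Set G))).map (normalizer (H : Set G)).subtype =
      H ⊔ centralizer (H : Set G))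
    {t : G} (htS : t ∈ S) (ht : ∀ h ∈ H, ∃ w ∈ H, ⁅t, h⁆ = w * w) : t ∈ H := by
  haveI := Fact.mk Nat.prime_two
  have hH : IsPGroup 2 H := S.2.to_le hHS
  have htN : t ∈ normalizer (H : Set G) := by
    rw [← zpowers_le]
    refine (zpowers_le.2 ?_)
    rw [mem_normalizer_iff_map_conj_eq]
    refine eq_of_le_of_card_ge ?_
      (card_map_of_injective (MulAut.conj t).injective).ge
    rintro _ ⟨h, hh, rfl⟩
    obtain ⟨w, hw, e⟩ := ht h hh
    have : t * h * t⁻¹ = ⁅t, h⁆ * h := by simp [commutatorElement_def]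
    show t * h * t⁻¹ ∈ H
    rw [this, e]
    exact mul_mem (mul_mem hw hw) hh
  refine radical S hHS hC hR (K := stab (normalizer (H : Set G)) H (fr H) normalizer_fr)
    (fun k hk => hk.1) (fun n hn k hk => stab_conj le_rfl hn hk) ?_
    ⟨htS, htN, fun h hh => ?_⟩
  · intro k hk ho
    have h1 : zpowers k ≤ stab (normalizer (H : Set G)) H (fr H) normalizer_fr :=
      zpowers_le.2 hk
    refine Coprime.le_centralizer_of_frattini (fun z hz => (h1 hz).1) ?_
      (fun z hz h hh => (h1 hz).2 h hh) (mem_zpowers k)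
    obtain ⟨n, hn⟩ := (hH.to_subgroup (frattini H)).exists_card_eq
    rw [Nat.card_zpowers, hn]
    exact ho.coprime_two_right.pow_right n
  · obtain ⟨w, hw, e⟩ := ht h hh
    rw [e]
    exact sq_mem_fr hH hw

theorem comm_coord (hP : IsProd (S : Subgroup G) a₁ x₁ r₁ a₂ x₂ r₂) {p p' q q' : G}
    (hp : p ∈ dih a₁ x₁) (hp' : p' ∈ dih a₁ x₁) (hq : q ∈ dih a₂ x₂) (hq' : q' ∈ dih a₂ x₂) :
    ⁅p * q, p' * q'⁆ = ⁅p, p'⁆ * ⁅q, q'⁆ := by
  rw [commutatorElement_def, hP.conj hp hp' hq hq', mul_inv_rev,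
    ← (hP.comm (inv_mem hp') (inv_mem hq')).eq,
    hP.mul (inv_mem hp') (mul_mem (mul_mem hq hq') (inv_mem hq)), commutatorElement_def,
    commutatorElement_def]

theorem comm_coord_left (hP : IsProd (S : Subgroup G) a₁ x₁ r₁ a₂ x₂ r₂) {t p q : G}
    (ht : t ∈ dih a₁ x₁) (hp : p ∈ dih a₁ x₁) (hq : q ∈ dih a₂ x₂) :
    ⁅t, p * q⁆ = ⁅t, p⁆ := by
  have := comm_coord hP ht hp (one_mem _) hq
  simpa using this

theorem comm_mem_dih {p p' : G} {a x : G} (hp : p ∈ dih a x) (hp' : p' ∈ dih a x) :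
    ⁅p, p'⁆ ∈ dih a x :=
  mul_mem (mul_mem (mul_mem hp hp') (inv_mem hp)) (inv_mem hp')

/-- A radical subgroup contains a reflection of a dihedral factor of order at least eight. -/
theorem exists_refl (hP : IsProd (S : Subgroup G) a₁ x₁ r₁ a₂ x₂ r₂)
    (hHS : H ≤ (S : Subgroup G))
    (hC : (S : Subgroup G) ⊓ centralizer (H : Set G) ≤ H)
    (hR : (Cfsg.pPrimePCore 2 ↥(normalizer (H : Set G))).map (normalizer (H : Set G)).subtype =
      H ⊔ centralizer (H : Set G)) :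
    ∃ p ∈ H, p ∈ dih a₁ x₁ ∧ p ∉ zpowers a₁ := by
  have h := hP.d₁
  by_cases hex : ∃ p' q₀, p' ∈ dih a₁ x₁ ∧ p' ∉ zpowers a₁ ∧ q₀ ∈ dih a₂ x₂ ∧ p' * q₀ ∈ H
  swap
  · -- all coordinates are rotations
    exfalso
    have hcoord : ∀ v ∈ H, ∃ p ∈ zpowers a₁, ∃ q ∈ dih a₂ x₂, v = p * q := fun v hv => by
      obtain ⟨p, hp, q, hq, rfl⟩ := hP.exists_coord (hHS hv)
      refine ⟨p, ?_, q, hq, rfl⟩
      by_contra hpA
      exact hex ⟨p, q, hp, hpA, hq, hv⟩
    have hA : ∀ c ∈ zpowers a₁, c ∈ H := fun c hc => by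
      refine hC ⟨hP.le₁ (IsDih.le_left hc), mem_centralizer_iff.2 fun v hv => ?_⟩
      obtain ⟨p, hp, q, hq, rfl⟩ := hcoord v hv
      exact ((IsDih.rot_comm hc hp).mul_right (hP.comm (IsDih.le_left hc) hq)).eq.symm
    have hx : x₁ ∈ H := mem_of_stab_fr hHS hC hR (hP.le₁ IsDih.x_mem) fun v hv => by
      obtain ⟨p, hp, q, hq, rfl⟩ := hcoord v hv
      refine ⟨p⁻¹, inv_mem (hA p hp), ?_⟩
      rw [comm_coord_left hP IsDih.x_mem (IsDih.le_left hp) hq, commutatorElement_def,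
        h.x_conj hp]
    exact hex ⟨x₁, 1, IsDih.x_mem, h.nmem, one_mem _, by rwa [mul_one]⟩
  obtain ⟨p', q₀, hp', hpA, hq₀, h0⟩ := hex
  -- rotations of `H` lie in the upper central series
  have hZmem : ∀ (n : ℕ) (c : G), c ∈ zpowers a₁ → c ∈ H → c ^ 2 ^ n = 1 → c ∈ zn H n := by
    intro n
    induction n with
    | zero => intro c _ _ h1; rw [pow_zero, pow_one] at h1; rw [h1]; exact one_mem _
    | succ n ih =>
      intro c hc hcH h1
      refine mem_zn_succ.2 ⟨hcH, fun v hv => ?_⟩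
      obtain ⟨p, hp, q, hq, rfl⟩ := hP.exists_coord (hHS hv)
      rw [comm_coord_left hP (IsDih.le_left hc) hp hq, commutatorElement_def]
      by_cases hpA' : p ∈ zpowers a₁
      · rw [(IsDih.rot_comm hc hpA').eq]; simp
      · rw [mul_assoc c p, mul_assoc c, h.refl_conj hp hpA' (inv_mem hc), inv_inv]
        refine ih _ (mul_mem hc hc) (mul_mem hcH hcH) ?_
        rw [← pow_two, ← pow_mul, ← pow_succ', h1]
  -- coordinates of the upper central series
  have hZcoord : ∀ (m : ℕ) (p q : G), p ∈ zpowers a₁ → q ∈ dih a₂ x₂ → p * q ∈ zn H m →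
      p ^ 2 ^ m = 1 := by
    intro m
    induction m with
    | zero =>
      intro p q hp hq h1
      have := (hP.coord_unique (IsDih.le_left hp) (one_mem _) hq (one_mem _)
        (by rw [zn_zero h1, one_mul])).1
      simpa using this
    | succ m ih =>
      intro p q hp hq h1
      have h2 := (mem_zn_succ.1 h1).2 _ h0
      rw [comm_coord hP (IsDih.le_left hp) hp' hq hq₀, commutatorElement_def p p',
        mul_assoc p, mul_assoc p, h.refl_conj hp' hpA (inv_mem hp), inv_inv] at h2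
      have h3 := ih _ _ (mul_mem hp hp) (comm_mem_dih hq hq₀) h2
      rwa [← pow_two, ← pow_mul, ← pow_succ'] at h3
  -- rotation coordinates lie in `H`
  have hmain : ∀ (n : ℕ) (c q : G), c ∈ zpowers a₁ → q ∈ dih a₂ x₂ → c * q ∈ H →
      c ^ 2 ^ n = 1 → c ∈ H := by
    intro n
    induction n with
    | zero => intro c q _ _ _ h1; rw [pow_zero, pow_one] at h1; rw [h1]; exact one_mem _
    | succ n ih =>
      intro c q hc hq hcq h1
      by_cases h2 : c ^ 2 ^ n = 1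
      · exact ih c q hc hq hcq h2
      have hcc : (c * c) ^ 2 ^ n = 1 := by rw [← pow_two, ← pow_mul, ← pow_succ', h1]
      have hccH : c * c ∈ H := ih _ (q * q) (mul_mem hc hc) (mul_mem hq hq)
        (by rw [← hP.mul (IsDih.le_left hc) hq]; exact mul_mem hcq hcq) hcc
      have hccZ := hZmem n _ (mul_mem hc hc) hccH hcc
      have hcomm : ∀ v ∈ H, ⁅c, v⁆ ∈ zn H n := fun v hv => by
        obtain ⟨p, hp, w, hw, rfl⟩ := hP.exists_coord (hHS hv)
        rw [comm_coord_left hP (IsDih.le_left hc) hp hw, commutatorElement_def]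
        by_cases hpA' : p ∈ zpowers a₁
        · rw [(IsDih.rot_comm hc hpA').eq]; simp
        · rw [mul_assoc c p, mul_assoc c, h.refl_conj hp hpA' (inv_mem hc), inv_inv]
          exact hccZ
      have hcN : c ∈ normalizer (H : Set G) := by
        rw [mem_normalizer_iff_map_conj_eq]
        refine eq_of_le_of_card_ge ?_ (card_map_of_injective (MulAut.conj c).injective).ge
        rintro _ ⟨v, hv, rfl⟩
        show c * v * c⁻¹ ∈ H
        rw [show c * v * c⁻¹ = ⁅c, v⁆ * v by simp [commutatorElement_def]]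
        exact mul_mem (zn_le n (hcomm v hv)) hv
      have hcfix : ∀ v ∈ zn H n, ⁅c, v⁆ = 1 := fun v hv => by
        obtain ⟨p, hp, w, hw, rfl⟩ := hP.exists_coord (hHS (zn_le n hv))
        rw [comm_coord_left hP (IsDih.le_left hc) hp hw, commutatorElement_eq_one_iff_commute]
        by_cases hpA' : p ∈ zpowers a₁
        · exact IsDih.rot_comm hc hpA'
        exfalso
        rcases n with _ | m
        · refine hpA' ?_
          rw [(hP.coord_unique hp (one_mem _) hw (one_mem _)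
            (by rw [zn_zero hv, one_mul])).1]
          exact one_mem _
        · have h3 := (mem_zn_succ.1 hv).2 _ hcq
          rw [comm_coord hP hp (IsDih.le_left hc) hw hq, commutatorElement_def p c,
            h.refl_conj hp hpA' hc] at h3
          have h4 := hZcoord m _ _ (mul_mem (inv_mem hc) (inv_mem hc)) (comm_mem_dih hw hq) h3
          rw [← pow_two, ← pow_mul, ← pow_succ', inv_pow, inv_eq_one] at h4
          exact h2 h4
      refine radical S hHS hC hR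
        (K := stab (normalizer (H : Set G)) H (zn H n) (normalizer_zn n) ⊓
          stab (normalizer (H : Set G)) (zn H n) ⊥ (le_normalizer_iff.2 fun g _ v hv => by
            rw [Subgroup.mem_bot] at hv ⊢; simp [hv]))
        (fun k hk => (mem_inf.1 hk).1.1)
        (fun g hg k hk => ⟨stab_conj le_rfl hg (mem_inf.1 hk).1,
          stab_conj (normalizer_zn n) hg (mem_inf.1 hk).2⟩)
        (fun k hk ho => mem_centralizer_iff.2 fun v hv =>
          (Coprime.commute_of_stabilizes (N := zn H n) ?_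
            (mem_centralizer_iff.2 fun w hw => ?_) ((mem_inf.1 hk).1.2 v hv)).eq.symm)
        ⟨hP.le₁ (IsDih.le_left hc), ⟨hcN, hcomm⟩, hcN, fun v hv => by simp [hcfix v hv]⟩
      · haveI := Fact.mk Nat.prime_two
        obtain ⟨j, hj⟩ := (S.2.to_le ((zn_le n).trans hHS)).exists_card_eq
        rw [hj]
        exact ho.coprime_two_right.pow_right j
      · have h3 := (mem_inf.1 hk).2.2 w hw
        rw [Subgroup.mem_bot, commutatorElement_eq_one_iff_commute] at h3
        exact h3.eq.symm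
  have hrotH : ∀ c q : G, c ∈ zpowers a₁ → q ∈ dih a₂ x₂ → c * q ∈ H → c ∈ H :=
    fun c q hc hq hcq => hmain r₁ c q hc hq hcq (h.pow_eq_one hc)
  refine ⟨p', mem_of_stab_fr hHS hC hR (hP.le₁ hp') fun v hv => ?_, hp', hpA⟩
  obtain ⟨p, hp, q, hq, rfl⟩ := hP.exists_coord (hHS hv)
  rw [comm_coord_left hP hp' hp hq, commutatorElement_def]
  by_cases hpA' : p ∈ zpowers a₁
  · refine ⟨p⁻¹, inv_mem (hrotH p q hpA' hq hv), ?_⟩
    rw [h.refl_conj hp' hpA hpA']
  · refine ⟨p' * p, hrotH _ (q₀ * q) (h.refl_mul_refl hp' hpA hp hpA') (mul_mem hq₀ hq)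
      (by rw [← hP.mul hp hq₀]; exact mul_mem h0 hv), ?_⟩
    rw [h.refl_inv hp' hpA, h.refl_inv hp hpA']
    group

/-- The normaliser of the Sylow subgroup preserves a factor closed on involutions. -/
theorem normalizer_preserves (hP : IsProd (S : Subgroup G) a₁ x₁ r₁ a₂ x₂ r₂)
    (hT : Table (S : Subgroup G) (dih a₁ x₁)) {y : G}
    (hy : y ∈ normalizer ((S : Subgroup G) : Set G)) {k : G} (hk : k ∈ dih a₁ x₁) :
    y * k * y⁻¹ ∈ dih a₁ x₁ := by
  have hinv : ∀ v ∈ dih a₁ x₁, v * v = 1 → y * v * y⁻¹ ∈ dih a₁ x₁ := fun v hv h2 =>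
    hT v hv h2 y ((mem_normalizer_iff.1 hy v).1 (hP.le₁ hv))
  suffices dih a₁ x₁ ≤ (dih a₁ x₁).comap (MulAut.conj y).toMonoidHom from this hk
  have hx : x₁ ∈ (dih a₁ x₁).comap (MulAut.conj y).toMonoidHom :=
    hinv x₁ IsDih.x_mem hP.d₁.sq
  have hxa : x₁ * a₁ ∈ (dih a₁ x₁).comap (MulAut.conj y).toMonoidHom :=
    hinv _ (mul_mem IsDih.x_mem IsDih.a_mem) (hP.d₁.refl_sq (mul_mem IsDih.x_mem IsDih.a_mem)
      (IsDih.mul_not_rot hP.d₁.nmem (mem_zpowers a₁)))
  refine sup_le (zpowers_le.2 ?_) (zpowers_le.2 hx)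
  have := mul_mem hx hxa
  rwa [← mul_assoc, hP.d₁.sq, one_mul] at this

/-- A dihedral factor which is closed on involutions is strongly closed. -/
theorem stronglyClosed_of_table (hP : IsProd (S : Subgroup G) a₁ x₁ r₁ a₂ x₂ r₂)
    (hT : Table (S : Subgroup G) (dih a₁ x₁)) :
    Cfsg.IsStronglyClosed (dih a₁ x₁) (S : Subgroup G) := by
  haveI := Fact.mk Nat.prime_two
  refine ⟨hP.le₁, fun k hk g hg => ?_⟩
  obtain ⟨n, H, X, x, c, y, hc, hy, he, hsteps⟩ :=
    LocalEvenB.StrongFusion.exists_decomposition S ({k} : Set G)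
      (Set.singleton_subset_iff.2 (hP.le₁ hk)) g⁻¹ (by
        rintro _ ⟨b, hb, rfl⟩
        rw [Set.mem_singleton_iff] at hb
        subst b
        show g⁻¹⁻¹ * k * g⁻¹ ∈ (S : Subgroup G)
        rwa [inv_inv])
  set L := List.ofFn x
  have hlen : L.length = n := List.length_ofFn
  have key : ∀ i, i ≤ n → (L.take i).prod⁻¹ * k * (L.take i).prod ∈ dih a₁ x₁ := by
    intro i
    induction i with
    | zero => intro _; simpa using hk
    | succ i ih =>
      intro hi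
      obtain ⟨hHS, -, hC, hR, -, ⟨-, hXN, -⟩, hxX, himg⟩ := hsteps ⟨i, hi⟩
      have hH : (L.take i).prod⁻¹ * k * (L.take i).prod ∈ H ⟨i, hi⟩ := himg ⟨k, rfl, rfl⟩
      have hxN := inv_mem (hXN (map_subtype_le _ hxX))
      set k' := (L.take i).prod⁻¹ * k * (L.take i).prod with hk'
      have hk'D := ih (by omega)
      rw [List.take_succ_eq_append_getElem (by omega), List.prod_append, List.prod_singleton,
        List.getElem_ofFn, mul_inv_rev]
      rw [show (x ⟨i, _⟩)⁻¹ * (L.take i).prod⁻¹ * k * ((L.take i).prod * x ⟨i, _⟩) =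
        (x ⟨i, hi⟩)⁻¹ * k' * (x ⟨i, hi⟩)⁻¹⁻¹ by rw [hk']; group]
      have hmove : ∀ v ∈ H ⟨i, hi⟩, v ∈ dih a₁ x₁ → v * v = 1 →
          (x ⟨i, hi⟩)⁻¹ * v * (x ⟨i, hi⟩)⁻¹⁻¹ ∈ dih a₁ x₁ := fun v hv hvD h2 =>
        hT v hvD h2 _ (hHS ((mem_normalizer_iff.1 hxN v).1 hv))
      by_cases hkA : k' ∈ zpowers a₁
      · obtain ⟨p, hpH, hpD, hpA⟩ := exists_refl hP hHS hC hR
        have h1 := hmove p hpH hpD (hP.d₁.refl_sq hpD hpA)
        have h2 := hmove (p * k') (mul_mem hpH hH) (mul_mem hpD hk'D)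
          (hP.d₁.refl_sq (mul_mem hpD hk'D) (IsDih.mul_not_rot hpA hkA))
        have := mul_mem h1 h2
        rwa [conj_mul, ← mul_assoc p, hP.d₁.refl_sq hpD hpA, one_mul] at this
      · exact hmove k' hH hk'D (hP.d₁.refl_sq hk'D hkA)
  have h1 := key n le_rfl
  rw [List.take_of_length_le hlen.le] at h1
  have h2 := normalizer_preserves hP hT (inv_mem hy) h1
  have hck : Commute c k := (mem_centralizer_iff.1 hc k rfl).symm
  convert h2 using 1
  rw [show g = (g⁻¹)⁻¹ from (inv_inv g).symm, he]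
  rw [show ((c * L.prod * y)⁻¹) * k * ((c * L.prod * y)⁻¹)⁻¹ =
    y⁻¹ * (L.prod⁻¹ * (c⁻¹ * k * c) * L.prod) * y⁻¹⁻¹ by group, mul_assoc c⁻¹, hck.symm.eq,
    inv_mul_cancel_left]

end CfsgLib.LocalEven.DihedralProduct
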