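import Cfsg.Agent.Lib.LocalEven.DihedralProduct.Common
import Cfsg.Agent.Lib.LocalEven.DihedralProduct.Radical

/-!
# Two dihedral factors of order at least eight
-/

set_option autoImplicit false
set_option linter.unusedSectionVars false

namespace CfsgLib.LocalEven.DihedralProduct

open Subgroup

variable {G : Type*} [Group G] [Finite G] {S : Sylow 2 G}
  {a₁ x₁ : G} {r₁ : ℕ} {a₂ x₂ : G} {r₂ : ℕ}

/-- Every reflection is conjugate to the central rotation. -/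
def Norm (a x : G) (r : ℕ) : Prop :=
  ∀ p ∈ dih a x, p ∉ zpowers a → IsConj p (zc a r)

section

variable (hP : IsProd (S : Subgroup G) a₁ x₁ r₁ a₂ x₂ r₂) (hr₁ : 2 ≤ r₁) (hr₂ : 2 ≤ r₂)

include hP

theorem sq_cases {s : G} (hs : s ∈ S) (h2 : (s * s) * (s * s) = 1) :
    s * s = 1 ∨ s * s = zc a₁ r₁ ∨ s * s = zc a₂ r₂ ∨ s * s = zc a₁ r₁ * zc a₂ r₂ := by
  obtain ⟨p, hp, q, hq, rfl⟩ := hP.exists_coord hs
  rw [hP.sq hp hq] at h2 ⊢
  obtain ⟨h3, h4⟩ := hP.coord_sq (mul_mem hp hp) (mul_mem hq hq) h2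
  rcases hP.d₁.eq_one_or_zc (hP.d₁.sq_rot hp) h3 with e | e <;>
    rcases hP.d₂.eq_one_or_zc (hP.d₂.sq_rot hq) h4 with e' | e' <;> rw [e, e'] <;> simp

theorem zc_mul_ne : zc a₁ r₁ * zc a₂ r₂ ≠ 1 := fun h => by
  refine hP.d₁.zc_ne (r := r₁) ?_
  exact (hP.coord_unique (IsDih.le_left IsDih.zc_mem) (one_mem _) (IsDih.le_left IsDih.zc_mem)
    (one_mem _) (by rw [h, one_mul])).1

theorem zc_ne_zc : zc a₁ r₁ ≠ zc a₂ r₂ := fun h => hP.d₁.zc_ne (r := r₁)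
  (hP.eq_one (IsDih.le_left IsDih.zc_mem) (h ▸ IsDih.le_left IsDih.zc_mem))

theorem zc₁_ne_mul : zc a₁ r₁ ≠ zc a₁ r₁ * zc a₂ r₂ := fun h => hP.d₂.zc_ne (r := r₂)
  (mul_left_cancel (a := zc a₁ r₁) (by rw [← h, mul_one]))

theorem zc₂_ne_mul : zc a₂ r₂ ≠ zc a₁ r₁ * zc a₂ r₂ := fun h => hP.d₁.zc_ne (r := r₁)
  (mul_right_cancel (b := zc a₂ r₂) (by rw [← h, one_mul]))

theorem mul_central {s : G} (hs : s ∈ S) : Commute (zc a₁ r₁ * zc a₂ r₂) s :=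
  (hP.zc₁_central hs).mul_left (hP.zc₂_central hs)

theorem central_cases {t : G} (ht : t ∈ S) (hc : ∀ s ∈ S, Commute t s) (h2 : t * t = 1)
    (hr₁ : 2 ≤ r₁) (hr₂ : 2 ≤ r₂) :
    t = 1 ∨ t = zc a₁ r₁ ∨ t = zc a₂ r₂ ∨ t = zc a₁ r₁ * zc a₂ r₂ := by
  obtain ⟨p, hp, q, hq, rfl⟩ := hP.exists_coord ht
  obtain ⟨hpp, hqq⟩ := hP.coord_sq hp hq h2
  have hpa := (hP.coord_comm hp (IsDih.a_mem (x := x₁)) hq (one_mem _)
    (by simpa using hc a₁ (hP.le₁ IsDih.a_mem))).1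
  have hqa := (hP.coord_comm hp (one_mem _) hq (IsDih.a_mem (x := x₂))
    (by simpa using hc a₂ (hP.le₂ IsDih.a_mem))).2
  rcases hP.d₁.eq_one_or_zc (hP.d₁.rot_of_commute hp (mem_zpowers a₁) (hP.d₁.sq_a_ne hr₁) hpa) hpp
    with rfl | rfl <;>
  rcases hP.d₂.eq_one_or_zc (hP.d₂.rot_of_commute hq (mem_zpowers a₂) (hP.d₂.sq_a_ne hr₂) hqa) hqq
    with rfl | rfl <;> simp

include hr₁ hr₂

theorem roots_commute {s s' : G} (hs : s ∈ S) (hs' : s' ∈ S)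
    (h : s * s = zc a₁ r₁ * zc a₂ r₂) (h' : s' * s' = zc a₁ r₁ * zc a₂ r₂) : Commute s s' := by
  have key : ∀ v ∈ S, v * v = zc a₁ r₁ * zc a₂ r₂ →
      ∃ p ∈ zpowers a₁, ∃ q ∈ zpowers a₂, v = p * q := by
    intro v hv hvv
    obtain ⟨p, hp, q, hq, rfl⟩ := hP.exists_coord hv
    rw [hP.sq hp hq] at hvv
    obtain ⟨e1, e2⟩ := hP.coord_unique (mul_mem hp hp) (IsDih.le_left IsDih.zc_mem)
      (mul_mem hq hq) (IsDih.le_left IsDih.zc_mem) hvv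
    refine ⟨p, ?_, q, ?_, rfl⟩
    · by_contra hpA
      exact hP.d₁.zc_ne (r := r₁) (e1 ▸ hP.d₁.refl_sq hp hpA)
    · by_contra hqA
      exact hP.d₂.zc_ne (r := r₂) (e2 ▸ hP.d₂.refl_sq hq hqA)
  obtain ⟨p, hp, q, hq, rfl⟩ := key s hs h
  obtain ⟨p', hp', q', hq', rfl⟩ := key s' hs' h'
  exact ((IsDih.rot_comm hp hp').mul_right (hP.comm (IsDih.le_left hp) (IsDih.le_left hq'))).mul_left
    ((hP.comm (IsDih.le_left hp') (IsDih.le_left hq)).symm.mul_right (IsDih.rot_comm hq hq'))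

theorem exists_roots : ∃ s ∈ S, ∃ s' ∈ S,
    s * s = zc a₁ r₁ ∧ s' * s' = zc a₁ r₁ ∧ ¬ Commute s s' := by
  obtain ⟨ρ, hρ, he, -⟩ := hP.d₁.exists_root hr₁
  have hxa : x₂ * a₂ ∈ dih a₂ x₂ := mul_mem IsDih.x_mem IsDih.a_mem
  refine ⟨ρ * x₂, hP.mem_mul (IsDih.le_left hρ) IsDih.x_mem, ρ * (x₂ * a₂),
    hP.mem_mul (IsDih.le_left hρ) hxa, ?_, ?_, fun hc => ?_⟩
  · rw [hP.sq (IsDih.le_left hρ) IsDih.x_mem, hP.d₂.sq, mul_one, he]
  · rw [hP.sq (IsDih.le_left hρ) hxa, hP.d₂.refl_sq hxa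
      (IsDih.mul_not_rot hP.d₂.nmem (mem_zpowers a₂)), mul_one, he]
  · have h1 := (hP.coord_comm (IsDih.le_left hρ) (IsDih.le_left hρ) IsDih.x_mem hxa hc).2
    have h2 : Commute x₂ a₂ := mul_left_cancel (a := x₂) (by rw [h1.eq]; group)
    exact hP.d₂.nmem (hP.d₂.rot_of_commute IsDih.x_mem (mem_zpowers a₂) (hP.d₂.sq_a_ne hr₂) h2)

theorem not_root_conj {n : G} (hn : n ∈ normalizer ((S : Subgroup G) : Set G)) :
    n * (zc a₁ r₁ * zc a₂ r₂) * n⁻¹ ≠ zc a₁ r₁ := fun e => by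
  obtain ⟨s, hs, s', hs', e1, e2, hnc⟩ := exists_roots hP hr₁ hr₂
  have hmem : ∀ v ∈ S, n⁻¹ * v * n ∈ S := fun v hv => by
    have := (mem_normalizer_iff.1 (inv_mem hn) v).1 hv
    rwa [inv_inv] at this
  have hsq : ∀ v, v * v = zc a₁ r₁ → (n⁻¹ * v * n) * (n⁻¹ * v * n) = zc a₁ r₁ * zc a₂ r₂ :=
    fun v hv => by
      rw [show (n⁻¹ * v * n) * (n⁻¹ * v * n) = n⁻¹ * (v * v) * n by group, hv]
      conv_lhs => rw [← e]
      group
  refine hnc ?_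
  have := (roots_commute hP hr₁ hr₂ (hmem s hs) (hmem s' hs') (hsq s e1) (hsq s' e2)).map
    (MulAut.conj n)
  simpa [mul_assoc] using this

theorem prod_fix {n : G} (hn : n ∈ normalizer ((S : Subgroup G) : Set G)) :
    n * (zc a₁ r₁ * zc a₂ r₂) * n⁻¹ = zc a₁ r₁ * zc a₂ r₂ := by
  obtain ⟨ρ, hρ, he, -⟩ := hP.d₁.exists_root hr₁
  obtain ⟨σ, hσ, he', -⟩ := hP.d₂.exists_root hr₂
  have hs : n * (ρ * σ) * n⁻¹ ∈ S :=
    (mem_normalizer_iff.1 hn _).1 (hP.mem_mul (IsDih.le_left hρ) (IsDih.le_left hσ))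
  have hsq : n * (ρ * σ) * n⁻¹ * (n * (ρ * σ) * n⁻¹) = n * (zc a₁ r₁ * zc a₂ r₂) * n⁻¹ := by
    rw [conj_mul, hP.sq (IsDih.le_left hρ) (IsDih.le_left hσ), he, he']
  have h2 : (zc a₁ r₁ * zc a₂ r₂) * (zc a₁ r₁ * zc a₂ r₂) = 1 := by
    rw [hP.sq (IsDih.le_left IsDih.zc_mem) (IsDih.le_left IsDih.zc_mem), hP.d₁.zc_sq, hP.d₂.zc_sq,
      one_mul]
  have hcases := sq_cases hP hs (by rw [hsq, conj_mul, h2, mul_one, mul_inv_cancel])
  rw [hsq] at hcases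
  rcases hcases with e | e | e | e
  · rw [conj_eq_one_iff] at e
    exact absurd e (zc_mul_ne hP)
  · exact absurd e (not_root_conj hP hr₁ hr₂ hn)
  · refine absurd ?_ (not_root_conj hP.symm hr₂ hr₁ hn)
    rwa [show zc a₂ r₂ * zc a₁ r₁ = zc a₁ r₁ * zc a₂ r₂ from (hP.zc₂_central hP.zc₁_mem).eq]
  · exact e

theorem norm_fix {n : G} (hn : n ∈ normalizer ((S : Subgroup G) : Set G)) :
    n * zc a₁ r₁ * n⁻¹ = zc a₁ r₁ := by
  obtain ⟨m, hm, hodd, s, hs, rfl⟩ := odd_part S hn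
  rw [show m * s * zc a₁ r₁ * (m * s)⁻¹ = m * (s * zc a₁ r₁ * s⁻¹) * m⁻¹ by group,
    (hP.zc₁_central hs).symm.eq, mul_inv_cancel_right]
  obtain ⟨ρ, hρ, he, -⟩ := hP.d₁.exists_root hr₁
  have hsS : m * ρ * m⁻¹ ∈ S := (mem_normalizer_iff.1 hm _).1 (hP.le₁ (IsDih.le_left hρ))
  have hsq : m * ρ * m⁻¹ * (m * ρ * m⁻¹) = m * zc a₁ r₁ * m⁻¹ := by rw [conj_mul, he]
  have hcases := sq_cases hP hsS (by rw [hsq, conj_mul, hP.d₁.zc_sq, mul_one, mul_inv_cancel])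
  rw [hsq] at hcases
  rcases hcases with e | e | e | e
  · rw [conj_eq_one_iff] at e
    exact absurd e hP.d₁.zc_ne
  · exact e
  · have e' : m * zc a₂ r₂ * m⁻¹ = zc a₁ r₁ := by
      have h1 := prod_fix hP hr₁ hr₂ hm
      rw [← conj_mul, e, (hP.zc₁_central hP.zc₂_mem).eq] at h1
      exact mul_left_cancel h1
    exact absurd (eq_of_odd_swap hodd e e') (zc_ne_zc hP)
  · refine absurd ((MulAut.conj m).injective ?_) (zc₁_ne_mul hP)
    simp only [MulAut.conj_apply]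
    rw [e, prod_fix hP hr₁ hr₂ hm]

theorem fix_all {n : G} (hn : n ∈ normalizer ((S : Subgroup G) : Set G)) {t : G}
    (ht : t ∈ S) (hc : ∀ s ∈ S, Commute t s) (h2 : t * t = 1) : n * t * n⁻¹ = t := by
  rcases central_cases hP ht hc h2 hr₁ hr₂ with rfl | rfl | rfl | rfl
  · simp
  · exact norm_fix hP hr₁ hr₂ hn
  · exact norm_fix hP.symm hr₂ hr₁ hn
  · exact prod_fix hP hr₁ hr₂ hn

theorem rigid {t t' : G} (ht : t ∈ S) (hc : ∀ s ∈ S, Commute t s) (h2 : t * t = 1)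
    (hc' : ∀ s ∈ S, Commute t' s) (h : IsConj t t') : t = t' := by
  obtain ⟨m, hm, -, e⟩ := central_conj S hc hc' h
  rwa [fix_all hP hr₁ hr₂ hm ht hc h2] at e

/-- A conjugate in `S` of a square root keeps the central square. -/
theorem conj_sq_fix {ρ z g : G} (hz : z ∈ S) (hzc : ∀ s ∈ S, Commute z s) (hz2 : z * z = 1)
    (he : ρ * ρ = z) (hg : g * ρ * g⁻¹ ∈ S) : g * z * g⁻¹ = z := by
  have hsq : g * ρ * g⁻¹ * (g * ρ * g⁻¹) = g * z * g⁻¹ := by rw [conj_mul, he]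
  have hcases := sq_cases hP hg (by rw [hsq, conj_mul, hz2, mul_one, mul_inv_cancel])
  rw [hsq] at hcases
  refine (rigid hP hr₁ hr₂ hz hzc hz2 (fun s hs => ?_) isConj_conj).symm
  rcases hcases with e | e | e | e <;> rw [e]
  · exact Commute.one_left s
  · exact hP.zc₁_central hs
  · exact hP.zc₂_central hs
  · exact mul_central hP hs

theorem refl_transport {x c : G} (hx : x ∈ dih a₁ x₁) (hc : ∀ s ∈ S, Commute c s)
    (h : IsConj x c) : ∃ g : G, g * x * g⁻¹ = c ∧ g * zc a₂ r₂ * g⁻¹ = zc a₂ r₂ := by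
  obtain ⟨g, hg, hgS⟩ := transport S hc h
  obtain ⟨σ, hσ, he, -⟩ := hP.d₂.exists_root hr₂
  exact ⟨g, hg, conj_sq_fix hP hr₁ hr₂ hP.zc₂_mem (fun s hs => hP.zc₂_central hs)
    hP.d₂.zc_sq he (hgS σ (hP.le₂ (IsDih.le_left hσ)) (hP.comm hx (IsDih.le_left hσ)).symm)⟩

theorem refl_both {x c : G} (hx : x ∈ dih a₁ x₁) (hc : ∀ s ∈ S, Commute c s) (h : IsConj x c) :
    IsConj (x * zc a₂ r₂) (c * zc a₂ r₂) := by
  obtain ⟨g, hg, hgz⟩ := refl_transport hP hr₁ hr₂ hx hc h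
  exact isConj_iff.2 ⟨g, by rw [← conj_mul, hg, hgz]⟩

theorem refl_central (h2 : ∀ N : Subgroup G, N.Normal → N.index ≠ 2) {x : G}
    (hx : x ∈ dih a₁ x₁) (hxA : x ∉ zpowers a₁) :
    IsConj x (zc a₁ r₁) ∨ IsConj x (zc a₁ r₁ * zc a₂ r₂) := by
  have hx2 := hP.d₁.refl_sq hx hxA
  have hxne : x ≠ 1 := fun e => hxA (e ▸ one_mem _)
  have hxQ : x ∉ zpowers a₁ ⊔ dih a₂ x₂ := fun hmem => by
    have hn : dih a₂ x₂ ≤ normalizer (zpowers a₁ : Set G) :=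
      Subgroup.le_normalizer_iff.2 fun b hb k hk => by
        rwa [(hP.comm (IsDih.le_left hk) hb).symm.eq, mul_inv_cancel_right]
    obtain ⟨c, hc, w, hw, he⟩ := (Coprime.mem_sup_of_le_normalizer hn).1 hmem
    have := (hP.coord_unique (IsDih.le_left hc) hx hw (one_mem _) (by rw [he, mul_one])).1
    exact hxA (this ▸ hc)
  have hQS : zpowers a₁ ⊔ dih a₂ x₂ ≤ (S : Subgroup G) :=
    sup_le (IsDih.le_left.trans hP.le₁) hP.le₂
  obtain ⟨M, hM, hMi, -⟩ | ⟨g, hg⟩ :=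
    Fusion.ThompsonTransfer.thompson_transfer S _ hQS hP.rot_relIndex x (by rw [pow_two, hx2])
      (hP.le₁ hx) hxQ
  · exact absurd hMi (h2 M hM)
  have hn : dih a₂ x₂ ≤ normalizer (zpowers a₁ : Set G) :=
    Subgroup.le_normalizer_iff.2 fun b hb k hk => by
      rwa [(hP.comm (IsDih.le_left hk) hb).symm.eq, mul_inv_cancel_right]
  obtain ⟨p, hp, q, hq, he⟩ := (Coprime.mem_sup_of_le_normalizer hn).1 hg
  have hy2 : (p * q) * (p * q) = 1 := by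
    rw [he, conj_mul, hx2, mul_one, mul_inv_cancel]
  obtain ⟨hpp, hqq⟩ := hP.coord_sq (IsDih.le_left hp) hq hy2
  have hxy : IsConj x (p * q) := he ▸ isConj_conj
  -- a central conjugate
  obtain ⟨c, hcS, hcc, hxc⟩ : ∃ c, c ∈ S ∧ (∀ s ∈ S, Commute c s) ∧ IsConj x c := by
    by_cases hqA : q ∈ zpowers a₂
    · refine ⟨p * q, hP.mem_mul (IsDih.le_left hp) hq, fun s hs => ?_, hxy⟩
      refine Commute.mul_left ?_ ?_
      · rcases hP.d₁.eq_one_or_zc hp hpp with rfl | rfl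
        exacts [Commute.one_left s, hP.zc₁_central hs]
      · rcases hP.d₂.eq_one_or_zc hqA hqq with rfl | rfl
        exacts [Commute.one_left s, hP.zc₂_central hs]
    obtain ⟨ρ, hρ, hρe, -⟩ := hP.d₁.exists_root hr₁
    obtain ⟨σ, hσ, hσe, -⟩ := hP.d₂.exists_root hr₂
    have hρy : Commute ρ (p * q) :=
      (IsDih.rot_comm hρ hp).mul_right (hP.comm (IsDih.le_left hρ) hq)
    have hρ'x : Commute (g⁻¹ * ρ * g) x := by
      have := hρy.map (MulAut.conj g⁻¹)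
      simp only [MulAut.conj_apply, inv_inv, he] at this
      rwa [show g⁻¹ * (g * x * g⁻¹) * g = x by group] at this
    obtain ⟨f, d, hd, hfx, hfσ, hfρ⟩ := exists_conj_triple S hx2
      (hP.comm hx (IsDih.le_left hσ)).symm hρ'x (i := r₂) (j := r₁) (hP.d₂.pow_eq_one hσ)
      (by
        have h1 := conj_pow (i := 2 ^ r₁) (a := g⁻¹) (b := ρ)
        rw [inv_inv, hP.d₁.pow_eq_one hρ, mul_one, inv_mul_cancel] at h1
        exact h1)
    refine ⟨f * x * f⁻¹, hfx, ?_, isConj_conj⟩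
    have e2 : f * zc a₂ r₂ * f⁻¹ = zc a₂ r₂ :=
      conj_sq_fix hP hr₁ hr₂ hP.zc₂_mem (fun s hs => hP.zc₂_central hs) hP.d₂.zc_sq hσe hfσ
    have e1 : f * d * g⁻¹ * zc a₁ r₁ * (f * d * g⁻¹)⁻¹ = zc a₁ r₁ :=
      conj_sq_fix hP hr₁ hr₂ hP.zc₁_mem (fun s hs => hP.zc₁_central hs) hP.d₁.zc_sq hρe
        (by convert hfρ using 1; group)
    obtain ⟨p', hp', q', hq', hw⟩ := hP.exists_coord hfx
    -- commuting with a root of the second central rotation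
    obtain ⟨b, hb, b', hb', hbw⟩ := hP.exists_coord hfσ
    have hc1 : Commute (b * b') (p' * q') := by
      rw [← hbw, ← hw]
      exact ((hP.comm hx (IsDih.le_left hσ)).symm).map (MulAut.conj f)
    obtain ⟨k, hk, k', hk', hkw⟩ := hP.exists_coord
      (show f * d * (g⁻¹ * ρ * g) * (f * d)⁻¹ ∈ (S : Subgroup G) from hfρ)
    have hc2 : Commute (k * k') (p' * q') := by
      rw [← hkw, ← hw, show f * x * f⁻¹ = f * d * x * (f * d)⁻¹ by
        rw [show f * d * x * (f * d)⁻¹ = f * (d * x * d⁻¹) * f⁻¹ by group, hd.eq,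
          mul_inv_cancel_right]]
      exact hρ'x.map (MulAut.conj (f * d))
    have hbq : b' * b' = zc a₂ r₂ := by
      have h3 : f * σ * f⁻¹ * (f * σ * f⁻¹) = zc a₂ r₂ := by rw [conj_mul, hσe, e2]
      rw [hbw, hP.sq hb hb'] at h3
      exact (hP.coord_unique (mul_mem hb hb) (one_mem _) (mul_mem hb' hb')
        (IsDih.le_left IsDih.zc_mem) (by rw [h3, one_mul])).2
    have hkq : k * k = zc a₁ r₁ := by
      have h3 : f * d * (g⁻¹ * ρ * g) * (f * d)⁻¹ * (f * d * (g⁻¹ * ρ * g) * (f * d)⁻¹) =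
          zc a₁ r₁ := by
        rw [show f * d * (g⁻¹ * ρ * g) * (f * d)⁻¹ = f * d * g⁻¹ * ρ * (f * d * g⁻¹)⁻¹ by group,
          conj_mul, hρe, e1]
      rw [hkw, hP.sq hk hk'] at h3
      exact (hP.coord_unique (mul_mem hk hk) (IsDih.le_left IsDih.zc_mem) (mul_mem hk' hk')
        (one_mem _) (by rw [h3, mul_one])).1
    have hb'A : b' ∈ zpowers a₂ := by
      by_contra h3
      exact hP.d₂.zc_ne (r := r₂) (hbq ▸ hP.d₂.refl_sq hb' h3)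
    have hkA : k ∈ zpowers a₁ := by
      by_contra h3
      exact hP.d₁.zc_ne (r := r₁) (hkq ▸ hP.d₁.refl_sq hk h3)
    have hq'A : q' ∈ zpowers a₂ := hP.d₂.rot_of_commute hq' hb'A (hbq ▸ hP.d₂.zc_ne)
      (hP.coord_comm hb hp' hb' hq' hc1).2.symm
    have hp'A : p' ∈ zpowers a₁ := hP.d₁.rot_of_commute hp' hkA (hkq ▸ hP.d₁.zc_ne)
      (hP.coord_comm hk hp' hk' hq' hc2).1.symm
    obtain ⟨h5, h6⟩ := hP.coord_sq hp' hq'
      (by rw [← hw, conj_mul, hx2, mul_one, mul_inv_cancel])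
    intro s hs
    rw [hw]
    refine Commute.mul_left ?_ ?_
    · rcases hP.d₁.eq_one_or_zc hp'A h5 with rfl | rfl
      exacts [Commute.one_left s, hP.zc₁_central hs]
    · rcases hP.d₂.eq_one_or_zc hq'A h6 with rfl | rfl
      exacts [Commute.one_left s, hP.zc₂_central hs]
  have hc2 : c * c = 1 := by
    obtain ⟨v, rfl⟩ := isConj_iff.1 hxc
    rw [conj_mul, hx2, mul_one, mul_inv_cancel]
  rcases central_cases hP hcS hcc hc2 hr₁ hr₂ with rfl | rfl | rfl | rfl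
  · exact absurd (isConj_one_left.1 hxc) hxne
  · exact Or.inl hxc
  · exfalso
    obtain ⟨v, hv, hvz⟩ := refl_transport hP hr₁ hr₂ hx hcc hxc
    have hxz : x = zc a₂ r₂ := (MulAut.conj v).injective (hv.trans hvz.symm)
    exact hxne (hP.eq_one hx (hxz ▸ IsDih.le_left IsDih.zc_mem))
  · exact Or.inr hxc

theorem exists_norm (h2 : ∀ N : Subgroup G, N.Normal → N.index ≠ 2) :
    ∃ a x : G, IsProd (S : Subgroup G) a x r₁ a₂ x₂ r₂ ∧ zc a r₁ = zc a₁ r₁ ∧ Norm a x r₁ := by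
  set z₂ := zc a₂ r₂
  have hz₂ : z₂ ∈ dih a₂ x₂ := IsDih.le_left IsDih.zc_mem
  have hpick : ∀ p ∈ dih a₁ x₁, p ∉ zpowers a₁ → ∃ u ∈ dih a₂ x₂, u * u = 1 ∧
      (∀ s ∈ S, Commute u s) ∧ IsConj (p * u) (zc a₁ r₁) := by
    intro p hp hpA
    rcases refl_central hP hr₁ hr₂ h2 hp hpA with h | h
    · exact ⟨1, one_mem _, one_mul 1, fun s _ => Commute.one_left s, by rwa [mul_one]⟩
    · refine ⟨z₂, hz₂, hP.d₂.zc_sq, fun s hs => hP.zc₂_central hs, ?_⟩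
      have := refl_both hP hr₁ hr₂ hp (fun s hs => mul_central hP hs) h
      rwa [mul_assoc, hP.d₂.zc_sq, mul_one] at this
  obtain ⟨u, hu, hu2, hcu, hxu⟩ := hpick x₁ IsDih.x_mem hP.d₁.nmem
  obtain ⟨v, hv, hv2, hcv, hxav⟩ := hpick (x₁ * a₁) (mul_mem IsDih.x_mem IsDih.a_mem)
    (IsDih.mul_not_rot hP.d₁.nmem (mem_zpowers a₁))
  obtain ⟨hP', hz⟩ := hP.twist hr₁ hu hv hu2 hv2 hcu hcv
  refine ⟨_, _, hP', hz, fun p hp hpA => ?_⟩
  rw [hz]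
  obtain ⟨c, -, h | h⟩ := hP'.d₁.refl_class hp hpA
  · exact (h ▸ isConj_conj : IsConj p (x₁ * u)).trans hxu
  · refine (h ▸ isConj_conj : IsConj p _).trans ?_
    rwa [show x₁ * u * (a₁ * (u * v)) = x₁ * a₁ * v by
      rw [(hP.comm IsDih.a_mem hu).symm.mul_mul_mul_comm, ← mul_assoc u u v, hu2, one_mul]]

theorem table_of_norm (h₁ : Norm a₁ x₁ r₁) (h₂ : Norm a₂ x₂ r₂) :
    Table (S : Subgroup G) (dih a₁ x₁) := by
  set z₁ := zc a₁ r₁ with hz₁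
  set z₂ := zc a₂ r₂ with hz₂
  have hz₁c : ∀ s ∈ S, Commute z₁ s := fun s hs => hP.zc₁_central hs
  have hz₂c : ∀ s ∈ S, Commute z₂ s := fun s hs => hP.zc₂_central hs
  have hz₁₂c : ∀ s ∈ S, Commute (z₁ * z₂) s := fun s hs => mul_central hP hs
  have hne : ¬ IsConj z₁ z₂ := fun h =>
    zc_ne_zc hP (rigid hP hr₁ hr₂ hP.zc₁_mem hz₁c hP.d₁.zc_sq hz₂c h)
  have hne₁ : ¬ IsConj z₁ (z₁ * z₂) := fun h =>
    zc₁_ne_mul hP (rigid hP hr₁ hr₂ hP.zc₁_mem hz₁c hP.d₁.zc_sq hz₁₂c h)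
  have hne₂ : ¬ IsConj z₂ (z₁ * z₂) := fun h =>
    zc₂_ne_mul hP (rigid hP hr₁ hr₂ hP.zc₂_mem hz₂c hP.d₂.zc_sq hz₁₂c h)
  have hinv₁ : ∀ p ∈ dih a₁ x₁, p * p = 1 → p ≠ 1 → IsConj p z₁ := by
    intro p hp hpp hp1
    by_cases hpA : p ∈ zpowers a₁
    · rw [(hP.d₁.eq_one_or_zc hpA hpp).resolve_left hp1]
    · exact h₁ p hp hpA
  have hinv₂ : ∀ q ∈ dih a₂ x₂, q * q = 1 → q ≠ 1 → IsConj q z₂ := by
    intro q hq hqq hq1
    by_cases hqA : q ∈ zpowers a₂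
    · rw [(hP.d₂.eq_one_or_zc hqA hqq).resolve_left hq1]
    · exact h₂ q hq hqA
  -- one coordinate central
  have hA : ∀ p ∈ dih a₁ x₁, p * p = 1 → p ≠ 1 → IsConj (p * z₂) (z₁ * z₂) :=
    fun p hp hpp hp1 => refl_both hP hr₁ hr₂ hp hz₁c (hinv₁ p hp hpp hp1)
  have hB : ∀ q ∈ dih a₂ x₂, q * q = 1 → q ≠ 1 → IsConj (z₁ * q) (z₁ * z₂) := by
    intro q hq hqq hq1
    have := refl_both hP.symm hr₂ hr₁ hq hz₂c (hinv₂ q hq hqq hq1)
    rwa [← (hz₁c q (hP.le₂ hq)).eq, ← (hz₁c z₂ hP.zc₂_mem).eq] at this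
  -- classification of the conjugates of `z₁`
  have hcls : ∀ w ∈ S, IsConj w z₁ → w ∈ dih a₁ x₁ := by
    intro w hw hwz
    have hw2 : w * w = 1 := by
      obtain ⟨v, hv⟩ := isConj_iff.1 hwz.symm
      rw [← hv, conj_mul, hP.d₁.zc_sq, mul_one, mul_inv_cancel]
    obtain ⟨p, hp, q, hq, rfl⟩ := hP.exists_coord hw
    obtain ⟨hpp, hqq⟩ := hP.coord_sq hp hq hw2
    by_contra hnot
    have hq1 : q ≠ 1 := fun e => hnot (by rw [e, mul_one]; exact hp)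
    have hp1 : p ≠ 1 := fun e => by
      rw [e, one_mul] at hwz
      exact hne (hwz.symm.trans (hinv₂ q hq hqq hq1))
    by_cases hpA : p ∈ zpowers a₁
    · rw [(hP.d₁.eq_one_or_zc hpA hpp).resolve_left hp1] at hwz
      exact hne₁ (hwz.symm.trans (hB q hq hqq hq1))
    by_cases hqA : q ∈ zpowers a₂
    · rw [(hP.d₂.eq_one_or_zc hqA hqq).resolve_left hq1] at hwz
      exact hne₁ (hwz.symm.trans (hA p hp hpp hp1))
    -- both coordinates are reflections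
    obtain ⟨g, hg, hgS⟩ := transport S hz₁c hwz
    set k := g * z₂ * g⁻¹ with hk
    have hkS : k ∈ S := hgS z₂ hP.zc₂_mem (hz₂c _ hw)
    have hkz : IsConj z₂ k := isConj_conj
    have hk2 : k * k = 1 := by rw [hk, conj_mul, hP.d₂.zc_sq, mul_one, mul_inv_cancel]
    have h3 : IsConj (z₁ * k) z₁ := by
      obtain ⟨σ, hσ, hσe, -⟩ := hP.d₂.exists_root hr₂
      have h4 : IsConj (p * q) (p * q * z₂) := isConj_iff.2 ⟨σ, by
        rw [← conj_mul (b := σ) (a := p) (c := q), (hP.comm hp (IsDih.le_left hσ)).symm.eq, mul_inv_cancel_right,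
          hP.d₂.refl_conj_root hq hqA hσ hσe, (hz₂c q (hP.le₂ hq)).eq, mul_assoc]⟩
      have h5 : IsConj (p * q * z₂) (z₁ * k) := isConj_iff.2 ⟨g, by rw [← conj_mul, hg]⟩
      exact h5.symm.trans (h4.symm.trans hwz)
    obtain ⟨p', hp', q', hq', he⟩ := hP.exists_coord hkS
    rw [he] at hk2 h3 hkz
    obtain ⟨hpp', hqq'⟩ := hP.coord_sq hp' hq' hk2
    by_cases hq1' : q' = 1
    · rw [hq1', mul_one] at hkz
      by_cases hp1' : p' = 1
      · exact ne_one_of_isConj hkz hP.d₂.zc_ne hp1'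
      · exact hne (hkz.trans (hinv₁ p' hp' hpp' hp1')).symm
    by_cases hp1' : p' = 1
    · rw [hp1', one_mul] at h3
      exact hne₁ (h3.symm.trans (hB q' hq' hqq' hq1'))
    by_cases hpA' : p' ∈ zpowers a₁
    · rw [(hP.d₁.eq_one_or_zc hpA' hpp').resolve_left hp1'] at hkz
      exact hne₂ (hkz.trans (hB q' hq' hqq' hq1'))
    by_cases hqA' : q' ∈ zpowers a₂
    · rw [(hP.d₂.eq_one_or_zc hqA' hqq').resolve_left hq1'] at hkz
      exact hne₂ (hkz.trans (hA p' hp' hpp' hp1'))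
    obtain ⟨ρ, hρ, hρe, -⟩ := hP.d₁.exists_root hr₁
    have h4 : IsConj (p' * q') (z₁ * (p' * q')) := isConj_iff.2 ⟨ρ, by
      rw [← conj_mul (b := ρ) (a := p') (c := q'), hP.d₁.refl_conj_root hp' hpA' hρ hρe,
        (hP.comm (IsDih.le_left hρ) hq').eq, mul_inv_cancel_right, mul_assoc]⟩
    exact hne ((hkz.trans h4).trans h3).symm
  intro k hk hk2 g hg
  by_cases hk1 : k = 1
  · rw [hk1, mul_one, mul_inv_cancel]
    exact one_mem _
  exact hcls _ hg (isConj_conj.symm.trans (hinv₁ k hk hk2 hk1))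

end

/-- In the case of two factors of order at least eight a suitable factorisation is strongly
closed. -/
theorem big_case (h2 : ∀ N : Subgroup G, N.Normal → N.index ≠ 2)
    (hP : IsProd (S : Subgroup G) a₁ x₁ r₁ a₂ x₂ r₂) (hr₁ : 2 ≤ r₁) (hr₂ : 2 ≤ r₂) :
    ∃ b₁ y₁ b₂ y₂ : G, IsProd (S : Subgroup G) b₁ y₁ r₁ b₂ y₂ r₂ ∧
      Cfsg.IsStronglyClosed (dih b₁ y₁) (S : Subgroup G) ∧
      Cfsg.IsStronglyClosed (dih b₂ y₂) (S : Subgroup G) := by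
  obtain ⟨b₁, y₁, hP', hz, hN⟩ := exists_norm hP hr₁ hr₂ h2
  obtain ⟨b₂, y₂, hP'', -, hN₂⟩ := exists_norm hP'.symm hr₂ hr₁ h2
  exact ⟨b₁, y₁, b₂, y₂, hP''.symm,
    stronglyClosed_of_table hP''.symm (table_of_norm hP''.symm hr₁ hr₂ hN hN₂),
    stronglyClosed_of_table hP'' (table_of_norm hP'' hr₂ hr₁ hN₂ hN)⟩

end CfsgLib.LocalEven.DihedralProduct
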