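import Cfsg.Agent.Lib.LocalEven.DihedralProduct.Dih
import Cfsg.Agent.Lib.Fusion.Transfer
import Cfsg.Agent.Lib.Fusion.ThompsonTransfer
import Cfsg.Agent.Lib.Involution.Basic
import Cfsg.Agent.Lib.Solvable.Cores

/-!
# Fusion tools for a Sylow 2-subgroup which is a product of two dihedral groups
-/

set_option autoImplicit false
set_option linter.unusedSectionVars false

namespace CfsgLib.LocalEven.DihedralProduct

open Subgroup

variable {G : Type*} [Group G] [Finite G]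

theorem isPGroup_zpowers_of_pow {t : G} {k : ℕ} (h : t ^ 2 ^ k = 1) :
    IsPGroup 2 (zpowers t) := by
  rintro ⟨s, hs⟩
  obtain ⟨i, rfl⟩ := mem_zpowers_iff.1 hs
  refine ⟨k, Subtype.ext ?_⟩
  simp only [SubmonoidClass.coe_pow, OneMemClass.coe_one]
  rw [← zpow_natCast, ← zpow_mul, mul_comm, zpow_mul, zpow_natCast, h, one_zpow]

theorem centralizer_le_normalizer_singleton {x : G} :
    centralizer ({x} : Set G) ≤ normalizer (zpowers x : Set G) := by
  refine Subgroup.le_normalizer_iff.2 fun c hc y hy => ?_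
  obtain ⟨i, rfl⟩ := mem_zpowers_iff.1 hy
  rw [← conj_zpow]
  refine zpow_mem ?_ i
  rw [show c * x * c⁻¹ = x by
    rw [(mem_centralizer_singleton_iff.1 hc), mul_inv_cancel_right]]
  exact mem_zpowers x

/-- A conjugate in the centre can be reached carrying the whole centraliser into the Sylow
subgroup. -/
theorem transport (S : Sylow 2 G) {u c : G} (hc : ∀ s ∈ S, Commute c s)
    (h : IsConj u c) :
    ∃ g : G, g * u * g⁻¹ = c ∧ ∀ s ∈ S, Commute s u → g * s * g⁻¹ ∈ S := by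
  haveI := Fact.mk Nat.prime_two
  obtain ⟨h₀, hh⟩ := isConj_iff.1 h
  set C := centralizer ({c} : Set G) with hC
  have hSC : (S : Subgroup G) ≤ C := fun s hs =>
    mem_centralizer_singleton_iff.2 (hc s hs).eq.symm
  let T : Sylow 2 C := S.subtype hSC
  set P := ((S : Subgroup G) ⊓ centralizer ({u} : Set G)).map (MulAut.conj h₀).toMonoidHom
  have hPC : P ≤ C := by
    rintro _ ⟨s, ⟨-, hs⟩, rfl⟩
    refine mem_centralizer_singleton_iff.2 ?_
    show h₀ * s * h₀⁻¹ * c = c * (h₀ * s * h₀⁻¹)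
    have h1 : Commute (MulAut.conj h₀ s) (MulAut.conj h₀ u) :=
      (show Commute s u from mem_centralizer_singleton_iff.1 hs).map (MulAut.conj h₀)
    simp only [MulAut.conj_apply, hh] at h1
    exact h1.eq
  have hP : IsPGroup 2 P := (S.2.to_le inf_le_left).map _
  obtain ⟨d, hd⟩ := Involution.Basic.exists_conj_le T
    (hP.of_equiv (subgroupOfEquivOfLe hPC).symm)
  refine ⟨(d : G) * h₀, ?_, fun s hs hsu => ?_⟩
  · rw [show (d : G) * h₀ * u * ((d : G) * h₀)⁻¹ = (d : G) * (h₀ * u * h₀⁻¹) * (d : G)⁻¹ by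
      group, hh, mem_centralizer_singleton_iff.1 d.2, mul_inv_cancel_right]
  · have hmem : h₀ * s * h₀⁻¹ ∈ P :=
      ⟨s, ⟨hs, mem_centralizer_singleton_iff.2 hsu.eq⟩, rfl⟩
    have h1 := hd ⟨_, hPC hmem⟩ (mem_subgroupOf.2 hmem)
    have h2 : ((d * ⟨_, hPC hmem⟩ * d⁻¹ : C) : G) ∈ S := h1
    simpa [mul_assoc] using h2

/-- Two 2-elements centralising an involution can be brought into the Sylow subgroup, keeping
the involution fixed. -/
theorem exists_conj_triple (S : Sylow 2 G) {x ρ σ : G} (hx : x * x = 1) (hρ : Commute ρ x)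
    (hσ : Commute σ x) {i j : ℕ} (hρ2 : ρ ^ 2 ^ i = 1) (hσ2 : σ ^ 2 ^ j = 1) :
    ∃ f c : G, Commute c x ∧ f * x * f⁻¹ ∈ S ∧ f * ρ * f⁻¹ ∈ S ∧ f * c * σ * (f * c)⁻¹ ∈ S := by
  haveI := Fact.mk Nat.prime_two
  set C := centralizer ({x} : Set G)
  have hmem : ∀ t : G, Commute t x → t ∈ C := fun t ht => mem_centralizer_singleton_iff.2 ht.eq
  set ρ' : C := ⟨ρ, hmem ρ hρ⟩
  set σ' : C := ⟨σ, hmem σ hσ⟩
  set x' : C := ⟨x, hmem x (Commute.refl x)⟩
  obtain ⟨T, hT⟩ := (isPGroup_zpowers_of_pow (t := ρ') (k := i) (Subtype.ext (by simpa using hρ2))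
    ).exists_le_sylow
  obtain ⟨c, hc⟩ := Involution.Basic.exists_conj_le T
    (isPGroup_zpowers_of_pow (t := σ') (k := j) (Subtype.ext (by simpa using hσ2)))
  haveI : (zpowers x').Normal := ⟨fun y hy g => by
    obtain ⟨n, rfl⟩ := mem_zpowers_iff.1 hy
    rw [← conj_zpow, show g * x' * g⁻¹ = x' from Subtype.ext (by
      simp only [coe_mul, coe_inv, x']
      rw [mem_centralizer_singleton_iff.1 g.2, mul_inv_cancel_right])]
    exact zpow_mem (mem_zpowers x') n⟩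
  have hxT : x' ∈ (T : Subgroup C) := Solvable.Cores.pCore_le_sylow T
    (Solvable.Cores.le_pCore (isPGroup_zpowers_of_pow (t := x') (k := 1)
      (Subtype.ext (by simpa [pow_two] using hx))) (mem_zpowers x'))
  obtain ⟨f, hf⟩ := Involution.Basic.exists_conj_le S (T.2.map C.subtype)
  refine ⟨f, c, mem_centralizer_singleton_iff.1 c.2, hf _ ⟨x', hxT, rfl⟩,
    hf _ ⟨ρ', hT (mem_zpowers ρ'), rfl⟩, ?_⟩
  have := hf _ ⟨_, hc σ' (mem_zpowers σ'), rfl⟩
  simpa [mul_assoc, σ'] using this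

/-- An element of `N(S)` acts on the centre of `S` like an element of odd order. -/
theorem odd_part (S : Sylow 2 G) {n : G} (hn : n ∈ normalizer ((S : Subgroup G) : Set G)) :
    ∃ m ∈ normalizer ((S : Subgroup G) : Set G), Odd (orderOf m) ∧ ∃ s ∈ S, n = m * s := by
  haveI := Fact.mk Nat.prime_two
  obtain ⟨i, k, hk, he⟩ := Nat.exists_eq_two_pow_mul_odd (orderOf_pos n).ne'
  have hcop : IsCoprime ((2 ^ i : ℕ) : ℤ) (k : ℤ) :=
    Nat.isCoprime_iff_coprime.2 (hk.coprime_two_left.pow_left i)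
  obtain ⟨α, β, hab⟩ := hcop
  have hord : n ^ ((2 ^ i * k : ℕ) : ℤ) = 1 := by
    rw [zpow_natCast, ← he, pow_orderOf_eq_one]
  refine ⟨n ^ (α * ((2 ^ i : ℕ) : ℤ)), zpow_mem hn _, ?_, n ^ (β * (k : ℤ)), ?_, ?_⟩
  · refine hk.of_dvd_nat (orderOf_dvd_of_pow_eq_one ?_)
    rw [← zpow_natCast, ← zpow_mul,
      show α * ((2 ^ i : ℕ) : ℤ) * (k : ℤ) = ((2 ^ i * k : ℕ) : ℤ) * α by push_cast; ring,
      zpow_mul, hord, one_zpow]
  · have h1 : IsPGroup 2 (zpowers (n ^ (β * (k : ℤ)))) := isPGroup_zpowers_of_pow (k := i) (by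
      rw [← zpow_natCast, ← zpow_mul,
        show β * (k : ℤ) * ((2 ^ i : ℕ) : ℤ) = ((2 ^ i * k : ℕ) : ℤ) * β by push_cast; ring,
        zpow_mul, hord, one_zpow])
    have h2 : zpowers (n ^ (β * (k : ℤ))) ⊓ normalizer ((S : Subgroup G) : Set G) =
        zpowers (n ^ (β * (k : ℤ))) ⊓ (S : Subgroup G) := h1.inf_normalizer_sylow S
    have h3 : n ^ (β * (k : ℤ)) ∈ zpowers (n ^ (β * (k : ℤ))) ⊓
        normalizer ((S : Subgroup G) : Set G) := ⟨mem_zpowers _, zpow_mem hn _⟩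
    rw [h2] at h3
    exact h3.2
  · rw [← zpow_add, hab, zpow_one]

/-- An element of odd order cannot move `u` to `v` and `v` back to `u` unless `u = v`. -/
theorem eq_of_odd_swap {m u v : G} (hm : Odd (orderOf m)) (h1 : m * u * m⁻¹ = v)
    (h2 : m * v * m⁻¹ = u) : u = v := by
  have h3 : Commute (m ^ 2) u :=
    mul_inv_eq_iff_eq_mul.1 (by
      rw [show m ^ 2 * u * (m ^ 2)⁻¹ = m * (m * u * m⁻¹) * m⁻¹ by rw [pow_two]; group, h1, h2])
  obtain ⟨k, hk⟩ := hm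
  have h4 : Commute m u := by
    have h5 := h3.pow_left (k + 1)
    rwa [← pow_mul, show 2 * (k + 1) = orderOf m + 1 by omega, pow_succ, pow_orderOf_eq_one,
      one_mul] at h5
  rw [← h1, h4.eq, mul_inv_cancel_right]

/-- Burnside: conjugate elements of the centre of `S` are conjugate in the normaliser. -/
theorem central_conj (S : Sylow 2 G) {t t' : G} (ht : ∀ s ∈ S, Commute t s)
    (ht' : ∀ s ∈ S, Commute t' s) (h : IsConj t t') :
    ∃ m ∈ normalizer ((S : Subgroup G) : Set G), Odd (orderOf m) ∧ m * t * m⁻¹ = t' := by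
  haveI := Fact.mk Nat.prime_two
  obtain ⟨n, hn, e⟩ := Fusion.Transfer.burnside_central S
    (mem_centralizer_iff.2 fun s hs => (ht s hs).eq.symm)
    (mem_centralizer_iff.2 fun s hs => (ht' s hs).eq.symm) (isConj_iff.1 h)
  obtain ⟨m, hm, hodd, s, hs, rfl⟩ := odd_part S hn
  refine ⟨m, hm, hodd, ?_⟩
  rwa [show m * s * t * (m * s)⁻¹ = m * (s * t * s⁻¹) * m⁻¹ by group, (ht s hs).symm.eq,
    mul_inv_cancel_right] at e

theorem isConj_conj {u g : G} : IsConj u (g * u * g⁻¹) := isConj_iff.2 ⟨g, rfl⟩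

theorem ne_one_of_isConj {u v : G} (h : IsConj u v) (hu : u ≠ 1) : v ≠ 1 := fun h1 =>
  hu (isConj_one_left.1 (h1 ▸ h))

namespace IsDih

variable {a x : G} {r : ℕ}

/-- A square root of the central rotation. -/
theorem exists_root (h : IsDih a x r) (hr : 2 ≤ r) :
    ∃ ρ ∈ zpowers a, ρ * ρ = zc a r ∧ ρ * ρ ≠ 1 := by
  have he : a ^ 2 ^ (r - 2) * a ^ 2 ^ (r - 2) = zc a r := by
    rw [← pow_add, ← two_mul, ← pow_succ', zc, show r - 2 + 1 = r - 1 by omega]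
  exact ⟨a ^ 2 ^ (r - 2), pow_mem (mem_zpowers a) _, he, by rw [he]; exact h.zc_ne⟩

theorem sq_a_ne (h : IsDih a x r) (hr : 2 ≤ r) : a * a ≠ 1 := fun h1 => by
  have h2 := orderOf_dvd_of_pow_eq_one (show a ^ 2 ^ 1 = 1 by rw [pow_one, pow_two, h1])
  rw [h.ord, Nat.pow_dvd_pow_iff_le_right (by norm_num)] at h2
  omega

/-- A reflection is conjugate to its product with the central rotation. -/
theorem refl_conj_root (h : IsDih a x r) {p ρ : G} (hp : p ∈ dih a x) (hpA : p ∉ zpowers a)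
    (hρ : ρ ∈ zpowers a) (he : ρ * ρ = zc a r) : ρ * p * ρ⁻¹ = zc a r * p := by
  have h1 := h.refl_conj hp hpA (inv_mem hρ)
  rw [inv_inv, mul_inv_eq_iff_eq_mul] at h1
  rw [mul_assoc, h1, ← mul_assoc, he]

end IsDih

namespace IsProd

variable {S : Subgroup G} {a₁ x₁ : G} {r₁ : ℕ} {a₂ x₂ : G} {r₂ : ℕ}

theorem zc₁_central (h : IsProd S a₁ x₁ r₁ a₂ x₂ r₂) {s : G} (hs : s ∈ S) :
    Commute (zc a₁ r₁) s := by
  obtain ⟨p, hp, q, hq, rfl⟩ := h.exists_coord hs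
  exact (h.d₁.zc_comm hp).symm.mul_right (h.comm (IsDih.le_left IsDih.zc_mem) hq)

theorem zc₂_central (h : IsProd S a₁ x₁ r₁ a₂ x₂ r₂) {s : G} (hs : s ∈ S) :
    Commute (zc a₂ r₂) s := h.symm.zc₁_central hs

theorem zc₁_mem (h : IsProd S a₁ x₁ r₁ a₂ x₂ r₂) : zc a₁ r₁ ∈ S :=
  h.le₁ (IsDih.le_left IsDih.zc_mem)

theorem zc₂_mem (h : IsProd S a₁ x₁ r₁ a₂ x₂ r₂) : zc a₂ r₂ ∈ S := h.symm.zc₁_mem

/-- An involution has involutions as coordinates. -/
theorem coord_sq (h : IsProd S a₁ x₁ r₁ a₂ x₂ r₂) {p q : G} (hp : p ∈ dih a₁ x₁)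
    (hq : q ∈ dih a₂ x₂) (h2 : (p * q) * (p * q) = 1) : p * p = 1 ∧ q * q = 1 := by
  rw [h.sq hp hq] at h2
  exact h.coord_unique (mul_mem hp hp) (one_mem _) (mul_mem hq hq) (one_mem _) (by rw [h2, one_mul])

/-- Coordinates of commuting elements commute. -/
theorem coord_comm (h : IsProd S a₁ x₁ r₁ a₂ x₂ r₂) {p p' q q' : G} (hp : p ∈ dih a₁ x₁)
    (hp' : p' ∈ dih a₁ x₁) (hq : q ∈ dih a₂ x₂) (hq' : q' ∈ dih a₂ x₂)
    (hc : Commute (p * q) (p' * q')) : Commute p p' ∧ Commute q q' := by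
  have h1 := hc.eq
  rw [h.mul hp' hq, h.mul hp hq'] at h1
  exact h.coord_unique (mul_mem hp hp') (mul_mem hp' hp) (mul_mem hq hq') (mul_mem hq' hq) h1

/-- The maximal subgroup where the first coordinate is a rotation. -/
theorem rot_relIndex (h : IsProd S a₁ x₁ r₁ a₂ x₂ r₂) :
    (zpowers a₁ ⊔ dih a₂ x₂).relIndex S = 2 := by
  have hmem : ∀ p q : G, p ∈ dih a₁ x₁ → q ∈ dih a₂ x₂ →
      (p * q ∈ zpowers a₁ ⊔ dih a₂ x₂ ↔ p ∈ zpowers a₁) := by
    intro p q hp hq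
    refine ⟨fun h1 => ?_, fun h1 => mul_mem_sup h1 hq⟩
    have hn : dih a₂ x₂ ≤ normalizer (zpowers a₁ : Set G) :=
      Subgroup.le_normalizer_iff.2 fun b hb k hk => by
        rwa [(h.comm (IsDih.le_left hk) hb).symm.eq, mul_inv_cancel_right]
    obtain ⟨c, hc, w, hw, he⟩ := (Coprime.mem_sup_of_le_normalizer hn).1 h1
    rw [← (h.coord_unique (IsDih.le_left hc) hp hw hq he).1]
    exact hc
  refine relIndex_eq_two_iff.2 ⟨x₁, h.le₁ IsDih.x_mem, fun b hb => ?_⟩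
  obtain ⟨p, hp, q, hq, rfl⟩ := h.exists_coord hb
  rw [show p * q * x₁ = (p * x₁) * q by
    rw [mul_assoc, ← (h.comm IsDih.x_mem hq).eq, mul_assoc]]
  rw [hmem _ _ (mul_mem hp IsDih.x_mem) hq, hmem _ _ hp hq]
  by_cases hpA : p ∈ zpowers a₁
  · refine Or.inr ⟨hpA, fun h1 => h.d₁.nmem ?_⟩
    simpa using mul_mem (inv_mem hpA) h1
  · exact Or.inl ⟨h.d₁.refl_mul_refl hp hpA IsDih.x_mem h.d₁.nmem, hpA⟩

/-- Changing the generators of the first factor by central involutions of the second. -/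
theorem twist (h : IsProd S a₁ x₁ r₁ a₂ x₂ r₂) (hr : 2 ≤ r₁) {u v : G}
    (hu : u ∈ dih a₂ x₂) (hv : v ∈ dih a₂ x₂) (hu2 : u * u = 1) (hv2 : v * v = 1)
    (hcu : ∀ s ∈ S, Commute u s) (hcv : ∀ s ∈ S, Commute v s) :
    IsProd S (a₁ * (u * v)) (x₁ * u) r₁ a₂ x₂ r₂ ∧
      zc (a₁ * (u * v)) r₁ = zc a₁ r₁ := by
  have huv : Commute u v := hcu v (h.le₂ hv)
  have ha : a₁ ∈ S := h.le₁ IsDih.a_mem
  have hx : x₁ ∈ S := h.le₁ IsDih.x_mem
  have hd := h.d₁.twist hu2 hv2 (hcu _ hx).symm (hcu _ ha).symm (hcv _ hx).symm (hcv _ ha).symm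
    huv hr
  have hw : (u * v) ∈ dih a₂ x₂ := mul_mem hu hv
  have hca : Commute a₁ (u * v) := h.comm IsDih.a_mem hw
  have hz : zc (a₁ * (u * v)) r₁ = zc a₁ r₁ := by
    rw [zc, hca.mul_pow, show r₁ - 1 = r₁ - 2 + 1 by omega, pow_succ', pow_mul (u * v), pow_two,
      huv.symm.mul_mul_mul_comm, hu2, hv2, one_mul, one_pow, mul_one, ← pow_succ',
      show r₁ - 2 + 1 = r₁ - 1 by omega, zc]
  have hle : dih (a₁ * (u * v)) (x₁ * u) ≤ S :=
    sup_le (zpowers_le.2 (mul_mem ha (h.le₂ hw))) (zpowers_le.2 (mul_mem hx (h.le₂ hu)))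
  refine ⟨⟨hd, h.d₂, hle, h.le₂, fun p hp q hq => ?_, ?_, ?_⟩, hz⟩
  · have : dih (a₁ * (u * v)) (x₁ * u) ≤ centralizer {q} := by
      refine sup_le (zpowers_le.2 ?_) (zpowers_le.2 ?_) <;>
        rw [mem_centralizer_singleton_iff]
      · exact ((h.comm IsDih.a_mem hq).mul_left
          ((hcu q (h.le₂ hq)).mul_left (hcv q (h.le₂ hq)))).eq
      · exact ((h.comm IsDih.x_mem hq).mul_left (hcu q (h.le₂ hq))).eq
    exact mem_centralizer_singleton_iff.1 (this hp)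
  · refine eq_bot_iff.2 fun k hk => ?_
    obtain ⟨hk1, hk2⟩ := mem_inf.1 hk
    rw [Subgroup.mem_bot]
    rcases hd.mem_cases hk1 with h1 | h1
    · obtain ⟨i, rfl⟩ := mem_zpowers_iff.1 h1
      rw [hca.mul_zpow] at hk2
      have h2 : a₁ ^ i = 1 := h.eq_one (zpow_mem IsDih.a_mem i) (by
        have := mul_mem hk2 (inv_mem (zpow_mem hw i))
        rwa [mul_inv_cancel_right] at this)
      rw [← orderOf_dvd_iff_zpow_eq_one, h.d₁.ord] at h2
      rw [← orderOf_dvd_iff_zpow_eq_one, hd.ord]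
      exact h2
    · exfalso
      obtain ⟨i, hi⟩ := mem_zpowers_iff.1 h1
      have hk' : k = (x₁ * a₁ ^ i) * (u * (u * v) ^ i) := by
        rw [show k = x₁ * u * (x₁ * u * k) by rw [← mul_assoc, hd.sq, one_mul], ← hi,
          hca.mul_zpow, (h.comm (zpow_mem IsDih.a_mem i) hu).symm.mul_mul_mul_comm]
      rw [hk'] at hk2
      have h2 : x₁ * a₁ ^ i = 1 := h.eq_one (mul_mem IsDih.x_mem (zpow_mem IsDih.a_mem i)) (by
        have := mul_mem hk2 (inv_mem (mul_mem hu (zpow_mem hw i)))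
        rwa [mul_inv_cancel_right] at this)
      exact IsDih.mul_not_rot h.d₁.nmem (zpow_mem (mem_zpowers a₁) i) (h2 ▸ one_mem _)
  · refine le_antisymm (sup_le hle h.le₂) ?_
    rw [← h.prod.2.2.2.2]
    refine sup_le (sup_le (zpowers_le.2 ?_) (zpowers_le.2 ?_)) le_sup_right
    · have h1 : a₁ * (u * v) ∈ dih (a₁ * (u * v)) (x₁ * u) ⊔ dih a₂ x₂ :=
        mem_sup_left IsDih.a_mem
      have := mul_mem h1 (mem_sup_right (S := dih (a₁ * (u * v)) (x₁ * u)) (inv_mem hw))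
      rwa [mul_inv_cancel_right] at this
    · have h1 : x₁ * u ∈ dih (a₁ * (u * v)) (x₁ * u) ⊔ dih a₂ x₂ :=
        mem_sup_left IsDih.x_mem
      have := mul_mem h1 (mem_sup_right (S := dih (a₁ * (u * v)) (x₁ * u)) (inv_mem hu))
      rwa [mul_inv_cancel_right] at this

end IsProd

end CfsgLib.LocalEven.DihedralProduct
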