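import Cfsg.Prelude.Def_TwoFusion
import Cfsg.Agent.Lib.Coprime.Action
import Cfsg.Agent.Lib.Derangements.DihedralHom

/-!
# Dihedral 2-subgroups given by a rotation and a reflection, and commuting pairs of these
-/

set_option autoImplicit false
set_option linter.unusedSectionVars false

namespace CfsgLib.LocalEven.DihedralProduct

open Subgroup
open scoped commutatorElement

variable {G : Type*} [Group G]

/-- `a` is a rotation of order `2 ^ r` and `x` a reflection. -/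
structure IsDih (a x : G) (r : ℕ) : Prop where
  ord : orderOf a = 2 ^ r
  pos : 1 ≤ r
  sq : x * x = 1
  inv : x * a * x⁻¹ = a⁻¹
  nmem : x ∉ zpowers a

/-- The subgroup generated by a rotation and a reflection. -/
def dih (a x : G) : Subgroup G := zpowers a ⊔ zpowers x

/-- The central rotation of order two. -/
def zc (a : G) (r : ℕ) : G := a ^ 2 ^ (r - 1)

theorem eq_one_or_of_mem_zpowers' {t p : G} (ht : t * t = 1) (hp : p ∈ zpowers t) :
    p = 1 ∨ p = t := by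
  obtain ⟨k, rfl⟩ := mem_zpowers_iff.1 hp
  have h2 : ∀ j : ℤ, t ^ (2 * j) = 1 := fun j => by rw [zpow_mul, zpow_two, ht, one_zpow]
  rcases Int.even_or_odd k with ⟨j, rfl⟩ | ⟨j, rfl⟩
  · exact Or.inl (by rw [← two_mul]; exact h2 j)
  · exact Or.inr (by rw [zpow_add, h2, zpow_one, one_mul])

namespace IsDih

variable {a x : G} {r : ℕ}

theorem le_left : zpowers a ≤ dih a x := le_sup_left

theorem a_mem : a ∈ dih a x := le_left (mem_zpowers a)

theorem x_mem : x ∈ dih a x := mem_sup_right (mem_zpowers x)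

theorem rot_comm {b c : G} (hb : b ∈ zpowers a) (hc : c ∈ zpowers a) : Commute b c := by
  obtain ⟨i, rfl⟩ := mem_zpowers_iff.1 hb
  obtain ⟨j, rfl⟩ := mem_zpowers_iff.1 hc
  exact (Commute.refl a).zpow_zpow i j

theorem xinv (h : IsDih a x r) : x⁻¹ = x := inv_eq_of_mul_eq_one_right h.sq

theorem x_conj (h : IsDih a x r) {c : G} (hc : c ∈ zpowers a) : x * c * x⁻¹ = c⁻¹ := by
  obtain ⟨k, rfl⟩ := mem_zpowers_iff.1 hc
  rw [← conj_zpow, h.inv, inv_zpow]

theorem mem_cases (h : IsDih a x r) {p : G} (hp : p ∈ dih a x) :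
    p ∈ zpowers a ∨ x * p ∈ zpowers a := by
  have hn : zpowers x ≤ normalizer (zpowers a : Set G) := by
    refine Subgroup.le_normalizer_iff.2 fun b hb k hk => ?_
    rcases eq_one_or_of_mem_zpowers' h.sq hb with rfl | rfl
    · simpa using hk
    · rw [h.x_conj hk]; exact inv_mem hk
  obtain ⟨c, hc, b, hb, rfl⟩ := (Coprime.mem_sup_of_le_normalizer hn).1 hp
  rcases eq_one_or_of_mem_zpowers' h.sq hb with rfl | rfl
  · exact Or.inl (by simpa using hc)
  · refine Or.inr ?_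
    have h1 := h.x_conj hc
    rw [h.xinv] at h1
    rw [← mul_assoc, h1]
    exact inv_mem hc

theorem refl_conj (h : IsDih a x r) {p c : G} (hp : p ∈ dih a x) (hpA : p ∉ zpowers a)
    (hc : c ∈ zpowers a) : p * c * p⁻¹ = c⁻¹ := by
  obtain ⟨k, hk, rfl⟩ : ∃ k ∈ zpowers a, p = x * k :=
    ⟨x * p, (h.mem_cases hp).resolve_left hpA, by rw [← mul_assoc, h.sq, one_mul]⟩
  rw [show x * k * c * (x * k)⁻¹ = x * (k * c * k⁻¹) * x⁻¹ by group, (rot_comm hk hc).eq,
    mul_inv_cancel_right, h.x_conj hc]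

theorem refl_sq (h : IsDih a x r) {p : G} (hp : p ∈ dih a x) (hpA : p ∉ zpowers a) :
    p * p = 1 := by
  obtain ⟨k, hk, rfl⟩ : ∃ k ∈ zpowers a, p = x * k :=
    ⟨x * p, (h.mem_cases hp).resolve_left hpA, by rw [← mul_assoc, h.sq, one_mul]⟩
  have h1 := h.x_conj hk
  rw [h.xinv] at h1
  rw [show x * k * (x * k) = x * k * x * k by group, h1, inv_mul_cancel]

theorem refl_inv (h : IsDih a x r) {p : G} (hp : p ∈ dih a x) (hpA : p ∉ zpowers a) :
    p⁻¹ = p :=
  inv_eq_of_mul_eq_one_right (h.refl_sq hp hpA)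

theorem refl_mul_refl (h : IsDih a x r) {p q : G} (hp : p ∈ dih a x) (hpA : p ∉ zpowers a)
    (hq : q ∈ dih a x) (hqA : q ∉ zpowers a) : p * q ∈ zpowers a := by
  have h1 := (h.mem_cases hp).resolve_left hpA
  have h2 := (h.mem_cases hq).resolve_left hqA
  rw [← h.refl_inv hp hpA, show p⁻¹ * q = (x * p)⁻¹ * (x * q) by group]
  exact mul_mem (inv_mem h1) h2

theorem x_not_rot (h : IsDih a x r) : x ∉ zpowers a := h.nmem

theorem mul_not_rot {p c : G} (hpA : p ∉ zpowers a) (hc : c ∈ zpowers a) :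
    p * c ∉ zpowers a := fun h1 =>
  hpA (by have := mul_mem h1 (inv_mem hc); rwa [mul_inv_cancel_right] at this)

theorem pow_eq_one (h : IsDih a x r) {c : G} (hc : c ∈ zpowers a) : c ^ 2 ^ r = 1 := by
  obtain ⟨k, rfl⟩ := mem_zpowers_iff.1 hc
  rw [← zpow_natCast, ← zpow_mul, mul_comm, zpow_mul, zpow_natCast, ← h.ord,
    pow_orderOf_eq_one, one_zpow]

theorem zc_mem : zc a r ∈ zpowers a := pow_mem (mem_zpowers a) _

theorem zc_sq (h : IsDih a x r) : zc a r * zc a r = 1 := by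
  rw [zc, ← pow_add, ← two_mul, ← pow_succ', Nat.sub_add_cancel h.pos, ← h.ord,
    pow_orderOf_eq_one]

theorem zc_ne (h : IsDih a x r) : zc a r ≠ 1 := fun h1 => by
  have h2 := orderOf_dvd_of_pow_eq_one h1
  rw [h.ord, Nat.pow_dvd_pow_iff_le_right (by norm_num)] at h2
  have := h.pos
  omega

theorem eq_one_or_zc (h : IsDih a x r) {c : G} (hc : c ∈ zpowers a) (h2 : c * c = 1) :
    c = 1 ∨ c = zc a r := by
  obtain ⟨k, rfl⟩ := mem_zpowers_iff.1 hc
  rw [← zpow_add, ← two_mul, ← orderOf_dvd_iff_zpow_eq_one, h.ord] at h2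
  have hd : ((2 ^ (r - 1) : ℕ) : ℤ) ∣ k := by
    have h3 : ((2 ^ r : ℕ) : ℤ) = 2 * ((2 ^ (r - 1) : ℕ) : ℤ) := by
      push_cast
      rw [← pow_succ', Nat.sub_add_cancel h.pos]
    rw [h3] at h2
    exact (mul_dvd_mul_iff_left (by norm_num)).1 h2
  obtain ⟨j, rfl⟩ := hd
  rw [zpow_mul, zpow_natCast]
  exact eq_one_or_of_mem_zpowers' h.zc_sq (zpow_mem (mem_zpowers (zc a r)) j)

theorem zc_comm (h : IsDih a x r) {p : G} (hp : p ∈ dih a x) : Commute p (zc a r) := by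
  by_cases hpA : p ∈ zpowers a
  · exact rot_comm hpA zc_mem
  · have h1 := h.refl_conj hp hpA (c := zc a r) zc_mem
    rw [inv_eq_of_mul_eq_one_right h.zc_sq] at h1
    exact (mul_inv_eq_iff_eq_mul.1 h1)

theorem rot_of_commute (h : IsDih a x r) {p c : G} (hp : p ∈ dih a x) (hc : c ∈ zpowers a)
    (hne : c * c ≠ 1) (hcomm : Commute p c) : p ∈ zpowers a := by
  by_contra hpA
  refine hne ?_
  have h1 := h.refl_conj hp hpA hc
  rw [hcomm.eq, mul_inv_cancel_right] at h1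
  exact mul_eq_one_iff_eq_inv.2 h1

theorem sq_rot (h : IsDih a x r) {p : G} (hp : p ∈ dih a x) : p * p ∈ zpowers a := by
  by_cases hpA : p ∈ zpowers a
  · exact mul_mem hpA hpA
  · rw [h.refl_sq hp hpA]; exact one_mem _

/-- Every reflection is conjugate, by a rotation, to `x` or to `x * a`. -/
theorem refl_class (h : IsDih a x r) {p : G} (hp : p ∈ dih a x) (hpA : p ∉ zpowers a) :
    ∃ c ∈ zpowers a, c * p * c⁻¹ = x ∨ c * p * c⁻¹ = x * a := by
  obtain ⟨k, hk⟩ := mem_zpowers_iff.1 ((h.mem_cases hp).resolve_left hpA)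
  have hpk : p = x * a ^ k := by rw [hk, ← mul_assoc, h.sq, one_mul]
  have key : ∀ j : ℤ, a ^ j * x = x * a ^ (-j) := fun j => by
    have := h.x_conj (zpow_mem (mem_zpowers a) (-j))
    rw [mul_inv_eq_iff_eq_mul, ← zpow_neg, neg_neg] at this
    exact this.symm
  rcases Int.even_or_odd k with ⟨j, rfl⟩ | ⟨j, rfl⟩
  · refine ⟨a ^ j, zpow_mem (mem_zpowers a) j, Or.inl ?_⟩
    rw [hpk, ← mul_assoc, key, mul_assoc x, ← zpow_add, mul_assoc x, ← zpow_neg, ← zpow_add,
      show -j + (j + j) + -j = (0 : ℤ) by ring, zpow_zero, mul_one]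
  · refine ⟨a ^ j, zpow_mem (mem_zpowers a) j, Or.inr ?_⟩
    rw [hpk, ← mul_assoc, key, mul_assoc x, ← zpow_add, mul_assoc x, ← zpow_neg, ← zpow_add,
      show -j + (2 * j + 1) + -j = (1 : ℤ) by ring, zpow_one]

theorem comm_of_one (h : IsDih a x 1) {p q : G} (hp : p ∈ dih a x) (hq : q ∈ dih a x) :
    Commute p q := by
  have hA : ∀ c ∈ zpowers a, c = 1 ∨ c = zc a 1 := fun c hc => by
    refine h.eq_one_or_zc hc ?_
    have := h.pow_eq_one hc
    rwa [pow_one, _root_.sq] at this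
  have hz : ∀ c ∈ zpowers a, ∀ q ∈ dih a x, Commute q c := fun c hc q hq => by
    rcases hA c hc with rfl | rfl
    · exact Commute.one_right _
    · exact h.zc_comm hq
  by_cases hpA : p ∈ zpowers a
  · exact (hz p hpA q hq).symm
  by_cases hqA : q ∈ zpowers a
  · exact hz q hqA p hp
  have h1 : p * q ∈ zpowers a := h.refl_mul_refl hp hpA hq hqA
  have h2 := hz _ h1 p hp
  -- p (pq) = (pq) p
  exact mul_left_cancel (a := p) (by rw [← mul_assoc p q p]; exact h2.eq)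

/-- The homomorphism from the dihedral group. -/
theorem exists_equiv [Finite G] (h : IsDih a x r) :
    Nonempty (↥(dih a x) ≃* DihedralGroup (2 ^ r)) := by
  haveI : NeZero (2 ^ r) := ⟨pow_ne_zero _ (by norm_num)⟩
  have hxc : x * a * x = a⁻¹ := by
    have := h.inv
    rwa [h.xinv] at this
  let f := Derangements.DihedralHom.lift (n := 2 ^ r) a x
    (by rw [← h.ord]; exact pow_orderOf_eq_one a) h.sq hxc
  have hinj : Function.Injective f := by
    rw [injective_iff_map_eq_one]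
    rintro (i | i) hi
    · rw [Derangements.DihedralHom.lift_r] at hi
      have h1 := orderOf_dvd_of_pow_eq_one hi
      rw [h.ord] at h1
      have h2 : i.val = 0 := Nat.eq_zero_of_dvd_of_lt h1 (ZMod.val_lt i)
      rw [DihedralGroup.one_def, (ZMod.val_eq_zero i).1 h2]
    · rw [Derangements.DihedralHom.lift_sr] at hi
      exfalso
      exact h.nmem (by rw [eq_inv_of_mul_eq_one_left hi]; exact inv_mem (pow_mem (mem_zpowers a) _))
  have hrange : f.range = dih a x := by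
    refine le_antisymm ?_ ?_
    · rintro _ ⟨i | i, rfl⟩
      · exact pow_mem a_mem _
      · exact mul_mem x_mem (pow_mem a_mem _)
    · refine sup_le (zpowers_le.2 ⟨DihedralGroup.r (1 : ℕ), ?_⟩)
        (zpowers_le.2 ⟨DihedralGroup.sr 0, ?_⟩)
      · rw [Derangements.DihedralHom.lift_r, ZMod.val_natCast,
          Nat.one_mod_eq_one.2 (by
            have := h.pos
            have := Nat.one_lt_two_pow (n := r) (by omega)
            omega), pow_one]
      · rw [Derangements.DihedralHom.lift_sr, ZMod.val_zero, pow_zero, mul_one]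
  exact ⟨(MulEquiv.subgroupCongr hrange.symm).trans (MonoidHom.ofInjective hinj).symm⟩

theorem card [Finite G] (h : IsDih a x r) : Nat.card (dih a x) = 2 ^ (r + 1) := by
  obtain ⟨e⟩ := h.exists_equiv
  rw [Nat.card_congr e.toEquiv, DihedralGroup.nat_card, pow_succ']

theorem of_equiv [Finite G] {D : Subgroup G} (hD : IsPGroup 2 D) {m : ℕ} (hm : 2 ≤ m)
    (e : ↥D ≃* DihedralGroup m) : ∃ (a x : G) (r : ℕ), IsDih a x r ∧ dih a x = D := by
  haveI : NeZero m := ⟨by omega⟩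
  obtain ⟨k, hk⟩ := hD.exists_card_eq
  rw [Nat.card_congr e.toEquiv, DihedralGroup.nat_card] at hk
  obtain ⟨j, -, rfl⟩ := (Nat.dvd_prime_pow Nat.prime_two).1 (⟨2, by rw [← hk]; ring⟩ : m ∣ 2 ^ k)
  have hj : 1 ≤ j := by
    by_contra hlt
    rw [Nat.lt_one_iff.1 (not_le.1 hlt)] at hm
    omega
  set A : DihedralGroup (2 ^ j) := DihedralGroup.r 1
  set B : DihedralGroup (2 ^ j) := DihedralGroup.sr 0
  have hval : ∀ u : DihedralGroup (2 ^ j), ((e.symm u : ↥D) : G) ∈ D := fun u => (e.symm u).2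
  set φ : DihedralGroup (2 ^ j) →* G := D.subtype.comp e.symm.toMonoidHom with hφ
  have hφi : Function.Injective φ := D.subtype_injective.comp e.symm.injective
  have hφr : φ.range = D := by
    rw [hφ, MonoidHom.range_comp, MonoidHom.range_eq_top.2 e.symm.surjective,
      ← MonoidHom.range_eq_map, range_subtype]
  refine ⟨φ A, φ B, j, ⟨?_, hj, ?_, ?_, ?_⟩, ?_⟩
  · rw [orderOf_injective φ hφi, DihedralGroup.orderOf_r_one]
  · rw [← map_mul, DihedralGroup.sr_mul_self, map_one]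
  · rw [← map_inv, ← map_mul, ← map_mul, ← map_inv]
    congr 1
    simp only [A, B, DihedralGroup.inv_sr, DihedralGroup.sr_mul_r, DihedralGroup.sr_mul_sr,
      DihedralGroup.inv_r]
    congr 1
    ring
  · rintro ⟨i, hi⟩
    change φ A ^ i = φ B at hi
    rw [← map_zpow] at hi
    have h1 := hφi hi
    simp only [A, B, DihedralGroup.r_one_zpow] at h1
    cases h1
  · rw [dih, ← MonoidHom.map_zpowers, ← MonoidHom.map_zpowers, ← Subgroup.map_sup,
      show zpowers A ⊔ zpowers B = ⊤ from eq_top_iff.2 fun u _ => ?_, ← MonoidHom.range_eq_map,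
      hφr]
    rcases u with i | i
    · have h1 : (DihedralGroup.r i : DihedralGroup (2 ^ j)) = A ^ i.val := by
        rw [DihedralGroup.r_one_pow, ZMod.natCast_zmod_val]
      rw [h1]
      exact mem_sup_left (pow_mem (mem_zpowers A) _)
    · have h1 : (DihedralGroup.sr i : DihedralGroup (2 ^ j)) = B * A ^ i.val := by
        rw [DihedralGroup.r_one_pow, ZMod.natCast_zmod_val, DihedralGroup.sr_mul_r, zero_add]
      rw [h1]
      exact mul_mem_sup (mem_zpowers B) (pow_mem (mem_zpowers A) _) |> fun h => by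
        rw [sup_comm]; exact h

/-- Changing the two generators by commuting central involutions. -/
theorem twist (h : IsDih a x r) {u v : G} (hu : u * u = 1) (hv : v * v = 1)
    (hxu : Commute x u) (hau : Commute a u) (hxv : Commute x v) (hav : Commute a v)
    (huv : Commute u v) (hne : 2 ≤ r) :
    IsDih (a * (u * v)) (x * u) r := by
  have hw : (u * v) * (u * v) = 1 := by
    rw [huv.symm.mul_mul_mul_comm, hu, hv, one_mul]
  have hca : Commute a (u * v) := hau.mul_right hav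
  have hwpow : ∀ n : ℕ, 1 ≤ n → (u * v) ^ 2 ^ n = 1 := fun n hn => by
    rw [← Nat.sub_add_cancel hn, pow_succ', pow_mul, pow_two, hw, one_pow]
  have ha2 : a * a ≠ 1 := fun h1 => by
    have h2 := orderOf_dvd_of_pow_eq_one (show a ^ 2 ^ 1 = 1 by rw [pow_one, pow_two, h1])
    rw [h.ord, Nat.pow_dvd_pow_iff_le_right (by norm_num)] at h2
    omega
  refine ⟨?_, h.pos, ?_, ?_, ?_⟩
  · obtain ⟨n, rfl⟩ : ∃ n, r = n + 1 := ⟨r - 1, by omega⟩
    refine orderOf_eq_prime_pow (p := 2) ?_ ?_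
    · rw [hca.mul_pow, hwpow n (by omega), mul_one]
      intro h1
      have h2 := orderOf_dvd_of_pow_eq_one h1
      rw [h.ord, Nat.pow_dvd_pow_iff_le_right (by norm_num)] at h2
      omega
    · rw [hca.mul_pow, hwpow _ (by omega), mul_one, ← h.ord, pow_orderOf_eq_one]
  · rw [hxu.symm.mul_mul_mul_comm, h.sq, hu, one_mul]
  · rw [show x * u * (a * (u * v)) * (x * u)⁻¹ = x * (u * (a * (u * v)) * u⁻¹) * x⁻¹ by group,
      (hau.symm.mul_right ((Commute.refl u).mul_right huv)).eq, mul_inv_cancel_right,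
      show x * (a * (u * v)) * x⁻¹ = x * a * x⁻¹ * (x * (u * v) * x⁻¹) by group, h.inv,
      (hxu.mul_right hxv).eq, mul_inv_cancel_right, mul_inv_rev,
      inv_eq_of_mul_eq_one_right hw, (hca.inv_left).eq]
  · rintro ⟨i, hi⟩
    change (a * (u * v)) ^ i = x * u at hi
    have h1 : Commute (x * u) a := hi ▸
      (((Commute.refl a).mul_left hca.symm).zpow_left i)
    have h2 : Commute x a := by
      have := h1.mul_left (hau.symm)
      rwa [mul_assoc, hu, mul_one] at this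
    exact ha2 (mul_eq_one_iff_eq_inv.2 (by rw [← h.inv, h2.eq, mul_inv_cancel_right]))

end IsDih

/-- A pair of commuting dihedral subgroups generating `S`. -/
structure IsProd (S : Subgroup G) (a₁ x₁ : G) (r₁ : ℕ) (a₂ x₂ : G) (r₂ : ℕ) : Prop where
  d₁ : IsDih a₁ x₁ r₁
  d₂ : IsDih a₂ x₂ r₂
  prod : Cfsg.IsInternalDirectProduct (dih a₁ x₁) (dih a₂ x₂) S

namespace IsProd

variable {S : Subgroup G} {a₁ x₁ : G} {r₁ : ℕ} {a₂ x₂ : G} {r₂ : ℕ}

theorem symm (h : IsProd S a₁ x₁ r₁ a₂ x₂ r₂) : IsProd S a₂ x₂ r₂ a₁ x₁ r₁ :=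
  ⟨h.d₂, h.d₁, h.prod.2.1, h.prod.1, fun b hb a ha => (h.prod.2.2.1 a ha b hb).symm,
    by rw [inf_comm]; exact h.prod.2.2.2.1, by rw [sup_comm]; exact h.prod.2.2.2.2⟩

theorem le₁ (h : IsProd S a₁ x₁ r₁ a₂ x₂ r₂) : dih a₁ x₁ ≤ S := h.prod.1

theorem le₂ (h : IsProd S a₁ x₁ r₁ a₂ x₂ r₂) : dih a₂ x₂ ≤ S := h.prod.2.1

theorem comm (h : IsProd S a₁ x₁ r₁ a₂ x₂ r₂) {p q : G} (hp : p ∈ dih a₁ x₁)
    (hq : q ∈ dih a₂ x₂) : Commute p q := h.prod.2.2.1 p hp q hq

theorem exists_coord (h : IsProd S a₁ x₁ r₁ a₂ x₂ r₂) {s : G} (hs : s ∈ S) :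
    ∃ p ∈ dih a₁ x₁, ∃ q ∈ dih a₂ x₂, s = p * q := by
  rw [← h.prod.2.2.2.2] at hs
  have hn : dih a₂ x₂ ≤ normalizer (dih a₁ x₁ : Set G) :=
    Subgroup.le_normalizer_iff.2 fun b hb k hk => by
      rwa [(h.comm hk hb).symm.eq, mul_inv_cancel_right]
  obtain ⟨p, hp, q, hq, he⟩ := (Coprime.mem_sup_of_le_normalizer hn).1 hs
  exact ⟨p, hp, q, hq, he.symm⟩

theorem mem_mul (h : IsProd S a₁ x₁ r₁ a₂ x₂ r₂) {p q : G} (hp : p ∈ dih a₁ x₁)
    (hq : q ∈ dih a₂ x₂) : p * q ∈ S := mul_mem (h.le₁ hp) (h.le₂ hq)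

theorem eq_one (h : IsProd S a₁ x₁ r₁ a₂ x₂ r₂) {p : G} (hp : p ∈ dih a₁ x₁)
    (hp' : p ∈ dih a₂ x₂) : p = 1 := by
  have : p ∈ dih a₁ x₁ ⊓ dih a₂ x₂ := ⟨hp, hp'⟩
  rwa [h.prod.2.2.2.1, Subgroup.mem_bot] at this

theorem coord_unique (h : IsProd S a₁ x₁ r₁ a₂ x₂ r₂) {p p' q q' : G} (hp : p ∈ dih a₁ x₁)
    (hp' : p' ∈ dih a₁ x₁) (hq : q ∈ dih a₂ x₂) (hq' : q' ∈ dih a₂ x₂)
    (he : p * q = p' * q') : p = p' ∧ q = q' := by
  have h1 : p'⁻¹ * p = q' * q⁻¹ := by
    rw [eq_mul_inv_iff_mul_eq, mul_assoc, he, inv_mul_cancel_left]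
  have h2 := h.eq_one (mul_mem (inv_mem hp') hp) (h1 ▸ mul_mem hq' (inv_mem hq))
  rw [inv_mul_eq_one] at h2
  subst h2
  exact ⟨rfl, mul_left_cancel he⟩

theorem mul (h : IsProd S a₁ x₁ r₁ a₂ x₂ r₂) {p p' q q' : G}
    (hp' : p' ∈ dih a₁ x₁) (hq : q ∈ dih a₂ x₂) :
    (p * q) * (p' * q') = (p * p') * (q * q') :=
  (h.comm hp' hq).symm.mul_mul_mul_comm p q'

theorem conj (h : IsProd S a₁ x₁ r₁ a₂ x₂ r₂) {p p' q q' : G} (hp : p ∈ dih a₁ x₁)
    (hp' : p' ∈ dih a₁ x₁) (hq : q ∈ dih a₂ x₂) (hq' : q' ∈ dih a₂ x₂) :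
    (p * q) * (p' * q') * (p * q)⁻¹ = (p * p' * p⁻¹) * (q * q' * q⁻¹) := by
  rw [h.mul hp' hq, mul_inv_rev, ← (h.comm (inv_mem hp) (inv_mem hq)).eq,
    h.mul (inv_mem hp) (mul_mem hq hq')]

theorem sq (h : IsProd S a₁ x₁ r₁ a₂ x₂ r₂) {p q : G} (hp : p ∈ dih a₁ x₁)
    (hq : q ∈ dih a₂ x₂) : (p * q) * (p * q) = (p * p) * (q * q) := h.mul hp hq

end IsProd

end CfsgLib.LocalEven.DihedralProduct
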