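import Cfsg.Agent.Lib.LocalEven.DihedralProduct.FourBasic

/-!
# A dihedral factor of order at least eight and a four group: the strongly closed four group
-/

set_option autoImplicit false
set_option linter.unusedSectionVars false
set_option linter.unusedVariables false

namespace CfsgLib.LocalEven.DihedralProduct

open Subgroup

variable {G : Type*} [Group G] [Finite G] {S : Sylow 2 G}
  {a x : G} {r : ℕ} {b y : G}

section

variable (hP : IsProd (S : Subgroup G) a x r b y 1) (hr : 2 ≤ r) (hN : Norm a x r)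

include hP hr hN

/-- The normaliser moves the four group. -/
theorem exists_moving (h2 : ∀ N : Subgroup G, N.Normal → N.index ≠ 2) :
    ∃ m ∈ normalizer ((S : Subgroup G) : Set G), Odd (orderOf m) ∧
      ∃ f ∈ dih b y, m * f * m⁻¹ ≠ f := by
  by_contra hcon
  have hfix : ∀ m ∈ normalizer ((S : Subgroup G) : Set G), Odd (orderOf m) →
      ∀ f ∈ dih b y, m * f * m⁻¹ = f := fun m hm hodd f hf => by
    by_contra h
    exact hcon ⟨m, hm, hodd, f, hf, h⟩
  have hrigid : ∀ t t' : G, Cen S t → Cen S t' → IsConj t t' → t = t' := by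
    intro t t' ht ht' h
    obtain ⟨m, hm, hodd, e⟩ := central_conj S ht.2 ht'.2 h
    obtain ⟨c, q, hq, hc, rfl⟩ := cen_cases hP hr ht
    rw [← e, ← conj_mul, hfix m hm hodd q hq]
    rcases hc with rfl | rfl
    · simp
    · rw [norm_fix_four hP hr hm]
  have hb : b ∈ dih b y := IsDih.a_mem
  have hy : y ∈ dih b y := IsDih.x_mem
  have hn : dih a x ≤ normalizer (zpowers b : Set G) :=
    Subgroup.le_normalizer_iff.2 fun d hd k hk => by
      rwa [(hP.comm hd (IsDih.le_left hk)).eq, mul_inv_cancel_right]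
  have hyQ : y ∉ zpowers b ⊔ dih a x := fun hmem => by
    obtain ⟨c, hc, d, hd, he⟩ := (Coprime.mem_sup_of_le_normalizer hn).1 hmem
    rw [← (hP.comm hd (IsDih.le_left hc)).eq] at he
    exact hP.d₂.nmem
      ((hP.coord_unique hd (one_mem _) (IsDih.le_left hc) hy (by rw [he, one_mul])).2 ▸ hc)
  obtain ⟨M, hM, hMi, -⟩ | ⟨g, hg⟩ :=
    Fusion.ThompsonTransfer.thompson_transfer S _
      (sup_le (IsDih.le_left.trans hP.le₂) hP.le₁) hP.symm.rot_relIndex y
      (by rw [pow_two, hP.d₂.sq]) (hP.le₂ hy) hyQ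
  · exact h2 M hM hMi
  obtain ⟨c, hc, d, hd, he⟩ := (Coprime.mem_sup_of_le_normalizer hn).1 hg
  rw [← (hP.comm hd (IsDih.le_left hc)).eq] at he
  have hyd : IsConj y (d * c) := he ▸ isConj_conj
  have hdd : d * d = 1 :=
    (hP.coord_sq hd (IsDih.le_left hc) (by rw [he, conj_mul, hP.d₂.sq, mul_one, mul_inv_cancel])).1
  by_cases hdA : d ∈ zpowers a
  · have h1 := hrigid _ _ (four_central hP hy) (cen_of_rot hP hdA hdd (IsDih.le_left hc)) hyd
    exact hP.d₂.nmem ((hP.coord_unique (one_mem _) hd hy (IsDih.le_left hc)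
      (by rw [one_mul, ← h1])).2 ▸ hc)
  rcases eq_one_or_of_mem_zpowers' (hP.d₂.four_sq hb) hc with e | e
  · rw [e, mul_one] at hyd
    exact not_conj_zc hP hr hy (hyd.trans (hN d hd hdA))
  · rw [e] at hyd
    rcases dichotomy hP hr hd hdA (one_mem _) hb (by rw [mul_one]; exact hN d hd hdA) with h1 | h1
      <;> rw [mul_one] at h1
    · have h3 := hrigid _ _ (four_central hP hy) (four_central hP hb) (hyd.trans h1)
      exact hP.d₂.nmem (h3 ▸ mem_zpowers b)
    · have h3 := hrigid _ _ (four_central hP hy) (cen_mul_zc hP hb) (hyd.trans h1)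
      refine zc_ne_four hP (mul_mem hy hb) (r := r) ?_
      rw [h3, mul_assoc, hP.d₂.four_sq hb, mul_one]

/-- A four group on which an element of the normaliser acts as a three-cycle. -/
theorem exists_triangle (h2 : ∀ N : Subgroup G, N.Normal → N.index ≠ 2) :
    ∃ b' y' m : G, IsProd (S : Subgroup G) a x r b' y' 1 ∧
      m ∈ normalizer ((S : Subgroup G) : Set G) ∧ Odd (orderOf m) ∧
      m * b' * m⁻¹ = y' ∧ m * y' * m⁻¹ = b' * y' := by
  obtain ⟨m, hm, hodd, f, hf, hmf⟩ := exists_moving hP hr hN h2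
  set z := zc a r with hz
  have hzm : m * z * m⁻¹ = z := norm_fix_four hP hr hm
  have hcm : ∀ c, c = 1 ∨ c = z → m * c * m⁻¹ = c := fun c hc => by
    rcases hc with rfl | rfl
    exacts [by simp, hzm]
  have hcenm : ∀ t, Cen S t → Cen S (m * t * m⁻¹) := fun t ht =>
    ⟨(mem_normalizer_iff.1 hm t).1 ht.1, fun s hs => by
      have h1 := (ht.2 (m⁻¹ * s * m⁻¹⁻¹)
        ((mem_normalizer_iff.1 (inv_mem hm) s).1 hs)).map (MulAut.conj m)
      simpa [mul_assoc] using h1⟩
  have hcD : ∀ c, c = 1 ∨ c = z → c ∈ dih a x := fun c hc => by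
    rcases hc with rfl | rfl
    exacts [one_mem _, IsDih.le_left IsDih.zc_mem]
  have hcc : ∀ c, c = 1 ∨ c = z → c * c = 1 := fun c hc => by
    rcases hc with rfl | rfl
    exacts [one_mul 1, hP.d₁.zc_sq]
  obtain ⟨c1, f2, hf2, hc1, e1⟩ := cen_cases hP hr (hcenm f (four_central hP hf))
  have hf1 : f ≠ 1 := fun e => hmf (by rw [e]; simp)
  have hf2f : f2 ≠ f := fun e => by
    rw [e] at e1
    rcases hc1 with rfl | rfl
    · exact hmf (by rw [e1, one_mul])
    · exact not_conj_twin hP hr (four_central hP hf) (isConj_iff.2 ⟨m, e1⟩)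
  have hf21 : f2 ≠ 1 := fun e => by
    rw [e, mul_one] at e1
    rcases hc1 with rfl | rfl
    · exact hf1 ((conj_eq_one_iff).1 e1)
    · exact not_conj_zc hP hr hf (isConj_iff.2 ⟨m, e1⟩)
  have hd : IsDih f f2 1 := IsDih.of_four (hP.d₂.four_sq hf) hf1 (hP.d₂.four_sq hf2) hf21
    (fun e => hf2f e.symm) (hP.d₂.comm_of_one hf hf2)
  have hdle : dih f f2 ≤ dih b y := sup_le (zpowers_le.2 hf) (zpowers_le.2 hf2)
  have hdeq : dih f f2 = dih b y :=
    eq_of_le_of_card_ge hdle (by rw [hd.card, hP.d₂.card])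
  obtain ⟨c2, f3, hf3, hc2, e2⟩ := cen_cases hP hr (hcenm f2 (four_central hP hf2))
  have hf3' : f3 = f * f2 := by
    rcases hd.four_cases (hdeq ▸ hf3) with rfl | rfl | rfl | rfl
    · exfalso
      rw [mul_one] at e2
      rcases hc2 with rfl | rfl
      · exact hf21 ((conj_eq_one_iff).1 e2)
      · exact not_conj_zc hP hr hf2 (isConj_iff.2 ⟨m, e2⟩)
    · exfalso
      have h3 : m * (c1 * f2) * m⁻¹ = c1 * c2 * f3 := by
        rw [← conj_mul, hcm c1 hc1, e2, mul_assoc]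
      have hc12 : c1 * c2 = 1 ∨ c1 * c2 = z := by
        rcases hc1 with rfl | rfl <;> rcases hc2 with rfl | rfl <;>
          simp [z, hP.d₁.zc_sq]
      rcases hc12 with e | e
      · rw [e, one_mul] at h3
        have h4 := eq_of_odd_swap hodd e1 h3
        exact hf2f (hP.coord_unique (hcD c1 hc1) (one_mem _) hf2 hf
          (by rw [one_mul, ← h4])).2
      · rw [e] at h3
        exact not_conj_twin hP hr (four_central hP hf)
          ((isConj_iff.2 ⟨m, e1⟩ : IsConj f3 (c1 * f2)).trans (isConj_iff.2 ⟨m, h3⟩))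
    · exfalso
      rcases hc2 with rfl | rfl
      · rw [one_mul] at e2
        have h3 : m * (c1 * f3) * m⁻¹ = m * f * m⁻¹ := by
          rw [← conj_mul, hcm c1 hc1, e2, e1]
        have h4 := (MulAut.conj m).injective (a₁ := c1 * f3) (a₂ := f) h3
        exact hf2f (hP.coord_unique (hcD c1 hc1) (one_mem _) hf2 hf (by rw [one_mul, h4])).2
      · exact not_conj_twin hP hr (four_central hP hf3) (isConj_iff.2 ⟨m, e2⟩)
    · rfl
  subst hf3'
  have hc12 : c2 * c1 = 1 ∨ c2 * c1 = z := by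
    rcases hc1 with rfl | rfl <;> rcases hc2 with rfl | rfl <;> simp [z, hP.d₁.zc_sq]
  have hcomm : Commute c1 c2 := IsDih.rot_comm (a := a)
    (by rcases hc1 with rfl | rfl; exacts [one_mem _, IsDih.zc_mem])
    (by rcases hc2 with rfl | rfl; exacts [one_mem _, IsDih.zc_mem])
  have hcen' : ∀ c w, (c = 1 ∨ c = z) → w ∈ dih b y → Cen S (c * w) := fun c w hc hw => by
    rcases hc with rfl | rfl
    · rw [one_mul]; exact four_central hP hw
    · exact cen_mul_zc hP hw
  have hbc : Cen S (c2 * f) := hcen' c2 f hc2 hf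
  have hyc : Cen S (c2 * c1 * f2) := hcen' _ f2 hc12 hf2
  have hd' : IsDih (c2 * f) (c2 * c1 * f2) 1 := by
    refine IsDih.of_four (cen_sq hP hr hbc) (fun e => hf1 ?_) (cen_sq hP hr hyc) (fun e => hf21 ?_)
      (fun e => hf2f ?_) (hbc.2 _ hyc.1)
    · exact (hP.coord_unique (hcD c2 hc2) (one_mem _) hf (one_mem _) (by rw [e, one_mul])).2
    · exact (hP.coord_unique (hcD _ hc12) (one_mem _) hf2 (one_mem _) (by rw [e, one_mul])).2
    · exact (hP.coord_unique (hcD c2 hc2) (hcD _ hc12) hf hf2 e).2.symm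
  refine ⟨c2 * f, c2 * c1 * f2, m, ⟨hP.d₁, hd', hP.le₁, ?_, fun p hp q hq => ?_, ?_, ?_⟩,
    hm, hodd, ?_, ?_⟩
  · exact sup_le (zpowers_le.2 hbc.1) (zpowers_le.2 hyc.1)
  · rcases hd'.four_cases hq with rfl | rfl | rfl | rfl
    · rw [mul_one, one_mul]
    · exact (hbc.2 p (hP.le₁ hp)).eq.symm
    · exact (hyc.2 p (hP.le₁ hp)).eq.symm
    · exact ((hbc.2 p (hP.le₁ hp)).mul_left (hyc.2 p (hP.le₁ hp))).eq.symm
  · refine eq_bot_iff.2 fun k hk => ?_
    obtain ⟨hk1, hk2⟩ := mem_inf.1 hk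
    rw [Subgroup.mem_bot]
    rcases hd'.four_cases hk2 with rfl | rfl | rfl | rfl
    · rfl
    · exact absurd (hP.coord_unique (hcD c2 hc2) hk1 hf (one_mem _) (by rw [mul_one])).2 hf1
    · exact absurd (hP.coord_unique (hcD _ hc12) hk1 hf2 (one_mem _) (by rw [mul_one])).2 hf21
    · refine absurd (hP.coord_unique (mul_mem (hcD c2 hc2) (hcD _ hc12)) hk1 (mul_mem hf hf2)
        (one_mem _) (by rw [mul_one, hP.mul (hcD _ hc12) hf])).2 fun e => hf2f ?_
      exact (eq_inv_of_mul_eq_one_right e).trans (inv_eq_of_mul_eq_one_right (hP.d₂.four_sq hf))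
  · refine le_antisymm (sup_le hP.le₁
      (sup_le (zpowers_le.2 hbc.1) (zpowers_le.2 hyc.1))) ?_
    rw [← hP.prod.2.2.2.2, ← hdeq]
    refine sup_le le_sup_left (sup_le (zpowers_le.2 ?_) (zpowers_le.2 ?_))
    · have h3 := mul_mem
        (mem_sup_left (T := dih (c2 * f) (c2 * c1 * f2)) (inv_mem (hcD c2 hc2)))
        (mem_sup_right (S := dih a x)
          (IsDih.a_mem : c2 * f ∈ dih (c2 * f) (c2 * c1 * f2)))
      rwa [inv_mul_cancel_left] at h3
    · have h3 := mul_mem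
        (mem_sup_left (T := dih (c2 * f) (c2 * c1 * f2)) (inv_mem (hcD _ hc12)))
        (mem_sup_right (S := dih a x)
          (IsDih.x_mem : c2 * c1 * f2 ∈ dih (c2 * f) (c2 * c1 * f2)))
      rwa [inv_mul_cancel_left] at h3
  · rw [← conj_mul, hcm c2 hc2, e1, mul_assoc]
  · rw [← conj_mul, hcm _ hc12, e2, hP.mul (hcD _ hc12) hf,
      show c2 * (c2 * c1) = c2 * c1 * c2 by rw [mul_assoc c2 c1 c2, hcomm.eq]]
    exact (mul_assoc _ _ _).symm

/-- A reflection and its image under an element of the normaliser are conjugate in the Sylow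
subgroup. -/
theorem class_fixed {m : G} (hm : m ∈ normalizer ((S : Subgroup G) : Set G))
    (hodd : Odd (orderOf m)) {p : G} (hp : p ∈ dih a x) (hpA : p ∉ zpowers a) :
    ∃ s ∈ S, s * (m * p * m⁻¹) * s⁻¹ = p := by
  set R : G → G → Prop := fun u v => ∃ s ∈ S, s * u * s⁻¹ = v with hR
  have hsymm : ∀ u v, R u v → R v u := by
    rintro u v ⟨s, hs, rfl⟩
    exact ⟨s⁻¹, inv_mem hs, by group⟩
  have htrans : ∀ u v w, R u v → R v w → R u w := by
    rintro u v w ⟨s, hs, rfl⟩ ⟨t, ht, rfl⟩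
    exact ⟨t * s, mul_mem ht hs, by group⟩
  have hequi : ∀ n ∈ normalizer ((S : Subgroup G) : Set G), ∀ u v, R u v →
      R (n * u * n⁻¹) (n * v * n⁻¹) := by
    rintro n hn u v ⟨s, hs, rfl⟩
    exact ⟨n * s * n⁻¹, (mem_normalizer_iff.1 hn s).1 hs, by group⟩
  have hrefl : ∀ n ∈ normalizer ((S : Subgroup G) : Set G), ∀ u ∈ dih a x, u ∉ zpowers a →
      n * u * n⁻¹ ∈ dih a x ∧ n * u * n⁻¹ ∉ zpowers a := by
    intro n hn u hu huA
    refine ⟨normalizer_preserves hP (table_dihedral hP hr hN) hn hu, fun h => ?_⟩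
    have hu2 := hP.d₁.refl_sq hu huA
    rcases hP.d₁.eq_one_or_zc h (by rw [conj_mul, hu2, mul_one, mul_inv_cancel]) with e | e
    · exact huA ((conj_eq_one_iff.1 e).symm ▸ one_mem _)
    · have h1 : u = zc a r :=
        (MulAut.conj n).injective (e.trans (norm_fix_four hP hr hn).symm)
      exact huA (h1 ▸ IsDih.zc_mem)
  have hclass : ∀ u ∈ dih a x, u ∉ zpowers a → R u x ∨ R u (x * a) := by
    intro u hu huA
    obtain ⟨c, hc, h | h⟩ := hP.d₁.refl_class hu huA
    · exact Or.inl ⟨c, hP.le₁ (IsDih.le_left hc), h⟩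
    · exact Or.inr ⟨c, hP.le₁ (IsDih.le_left hc), h⟩
  have hm2 : m * m ∈ normalizer ((S : Subgroup G) : Set G) := mul_mem hm hm
  show R (m * p * m⁻¹) p
  have h3 : R (m * p * m⁻¹) p ∨ R (m * m * p * (m * m)⁻¹) p := by
    obtain ⟨hp1, hp1A⟩ := hrefl m hm p hp hpA
    obtain ⟨hp2, hp2A⟩ := hrefl _ hm2 p hp hpA
    have h12 : R (m * m * p * (m * m)⁻¹) (m * p * m⁻¹) → R (m * p * m⁻¹) p := fun h => by
      have := hequi _ (inv_mem hm) _ _ h
      rwa [show m⁻¹ * (m * m * p * (m * m)⁻¹) * m⁻¹⁻¹ = m * p * m⁻¹ by group,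
        show m⁻¹ * (m * p * m⁻¹) * m⁻¹⁻¹ = p by group] at this
    rcases hclass _ hp hpA with h0 | h0 <;> rcases hclass _ hp1 hp1A with h1 | h1 <;>
      rcases hclass _ hp2 hp2A with h2 | h2 <;>
      first
        | exact Or.inl (htrans _ _ _ h1 (hsymm _ _ h0))
        | exact Or.inr (htrans _ _ _ h2 (hsymm _ _ h0))
        | exact Or.inl (h12 (htrans _ _ _ h2 (hsymm _ _ h1)))
  rcases h3 with h | h
  · exact h
  have hpow : ∀ k : ℕ, R ((m * m) ^ k * p * ((m * m) ^ k)⁻¹) p := by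
    intro k
    induction k with
    | zero => exact ⟨1, one_mem _, by simp⟩
    | succ k ih =>
      refine htrans _ _ _ ?_ h
      have := hequi _ hm2 _ _ ih
      rwa [show m * m * ((m * m) ^ k * p * ((m * m) ^ k)⁻¹) * (m * m)⁻¹ =
        (m * m) * (m * m) ^ k * p * ((m * m) * (m * m) ^ k)⁻¹ by
          simp only [mul_inv_rev, mul_assoc], ← pow_succ'] at this
  obtain ⟨k, hk⟩ := hodd
  have := hpow (k + 1)
  rwa [← pow_two, ← pow_mul, show 2 * (k + 1) = orderOf m + 1 by omega, pow_succ,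
    pow_orderOf_eq_one, one_mul] at this

variable {m : G} (hm : m ∈ normalizer ((S : Subgroup G) : Set G)) (hodd : Odd (orderOf m))
  (hm1 : m * b * m⁻¹ = y) (hm2 : m * y * m⁻¹ = b * y)

include hm hodd hm1 hm2

/-- The class of `reflection * involution` only depends on the reflection. -/
theorem orbit {p f K : G} (hp : p ∈ dih a x) (hpA : p ∉ zpowers a) (hf : f ∈ dih b y)
    (hf1 : f ≠ 1) (h : IsConj (p * f) K) {f' : G} (hf' : f' ∈ dih b y) (hf'1 : f' ≠ 1) :
    IsConj (p * f') K ∧ IsConj (zc a r * p * f') K := by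
  have hm3 : m * (b * y) * m⁻¹ = b := by
    rw [← conj_mul, hm1, hm2, ← mul_assoc,
      (hP.d₂.comm_of_one IsDih.x_mem IsDih.a_mem).eq, mul_assoc, hP.d₂.sq, mul_one]
  have hstep : ∀ u ∈ dih b y, m * u * m⁻¹ ∈ dih b y → IsConj (p * u) K →
      IsConj (p * (m * u * m⁻¹)) K := by
    intro u hu hu' hK
    obtain ⟨s, hs, e⟩ := class_fixed hP hr hN hm hodd hp hpA
    refine IsConj.trans ?_ hK
    refine (isConj_iff.2 ⟨s * m, ?_⟩ : IsConj (p * u) (p * (m * u * m⁻¹))).symm
    rw [show s * m * (p * u) * (s * m)⁻¹ = s * (m * p * m⁻¹) * s⁻¹ * (s * (m * u * m⁻¹) * s⁻¹) by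
      group, e, ((four_central hP hu').2 s hs).symm.eq, mul_inv_cancel_right]
  have hb : b ∈ dih b y := IsDih.a_mem
  have hy : y ∈ dih b y := IsDih.x_mem
  have hby : b * y ∈ dih b y := mul_mem hb hy
  have hbK : IsConj (p * b) K → IsConj (p * y) K := fun h => by
    have := hstep b hb (hm1.symm ▸ hy) h
    rwa [hm1] at this
  have hyK : IsConj (p * y) K → IsConj (p * (b * y)) K := fun h => by
    have := hstep y hy (hm2.symm ▸ hby) h
    rwa [hm2] at this
  have hbyK : IsConj (p * (b * y)) K → IsConj (p * b) K := fun h => by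
    have := hstep (b * y) hby (hm3.symm ▸ hb) h
    rwa [hm3] at this
  have hall : IsConj (p * b) K := by
    rcases hP.d₂.four_cases hf with rfl | rfl | rfl | rfl
    · exact absurd rfl hf1
    · exact h
    · exact hbyK (hyK h)
    · exact hbyK h
  have h1 : IsConj (p * f') K := by
    rcases hP.d₂.four_cases hf' with rfl | rfl | rfl | rfl
    · exact absurd rfl hf'1
    · exact hall
    · exact hbK hall
    · exact hyK (hbK hall)
  exact ⟨h1, (refl_shift hP hr hp hpA hf').symm.trans h1⟩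

theorem conj_b {q : G} (hq : q ∈ dih b y) (hq1 : q ≠ 1) :
    IsConj q b ∧ IsConj (zc a r * q) (zc a r * b) := by
  have hy : ∀ n : G, n ∈ normalizer ((S : Subgroup G) : Set G) →
      IsConj (n * b * n⁻¹) b ∧ IsConj (zc a r * (n * b * n⁻¹)) (zc a r * b) := fun n hn =>
    ⟨isConj_conj.symm, (isConj_iff.2 ⟨n, by
      rw [← conj_mul (b := n) (a := zc a r) (c := b), norm_fix_four hP hr hn]⟩ :
        IsConj (zc a r * b) (zc a r * (n * b * n⁻¹))).symm⟩
  rcases hP.d₂.four_cases hq with rfl | rfl | rfl | rfl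
  · exact absurd rfl hq1
  · exact ⟨IsConj.refl _, IsConj.refl _⟩
  · rw [← hm1]; exact hy m hm
  · rw [← hm2, ← hm1, show m * (m * b * m⁻¹) * m⁻¹ = m * m * b * (m * m)⁻¹ by group]
    exact hy _ (mul_mem hm hm)

theorem table_four (h2 : ∀ N : Subgroup G, N.Normal → N.index ≠ 2) :
    Table (S : Subgroup G) (dih b y) := by
  set z := zc a r with hz
  have hb : b ∈ dih b y := IsDih.a_mem
  have hb1 : b ≠ 1 := by
    intro e
    have := hP.d₂.zc_ne (r := 1)
    rw [hP.d₂.zc_one] at this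
    exact this e
  have hne : ¬ IsConj b (z * b) := not_conj_twin hP hr (four_central hP hb)
  have hne1 : ¬ IsConj b z := not_conj_zc hP hr hb
  have hne2 : ¬ IsConj (z * b) z := fun h => by
    have := eq_zc hP hr (cen_mul_zc hP hb) h
    exact hb1 (mul_left_cancel (a := z) (by rw [this, mul_one]))
  intro k hk hk2 g₀ hg₀
  by_cases hk1 : k = 1
  · rw [hk1, mul_one, mul_inv_cancel]
    exact one_mem _
  have hwb : IsConj (g₀ * k * g₀⁻¹) b :=
    isConj_conj.symm.trans (conj_b hP hr hN hm hodd hm1 hm2 hk hk1).1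
  have hw2 : g₀ * k * g₀⁻¹ * (g₀ * k * g₀⁻¹) = 1 := by
    rw [conj_mul, hk2, mul_one, mul_inv_cancel]
  by_cases hcen : Cen S (g₀ * k * g₀⁻¹)
  · obtain ⟨c, q, hq, hc, e⟩ := cen_cases hP hr hcen
    rw [e] at hwb ⊢
    rcases hc with rfl | rfl
    · rwa [one_mul]
    exfalso
    by_cases hq1 : q = 1
    · rw [hq1, mul_one] at hwb
      exact hne1 hwb.symm
    · exact hne (hwb.symm.trans (conj_b hP hr hN hm hodd hm1 hm2 hq hq1).2)
  exfalso
  obtain ⟨p, hp, hpA, q, hq, e⟩ := invol_coord hP hg₀ hw2 hcen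
  rw [e] at hwb
  have hq1 : q ≠ 1 := fun e1 => by
    rw [e1, mul_one] at hwb
    exact hne1 (hwb.symm.trans (hN p hp hpA))
  obtain ⟨g, hg, hnc, hzS, hgS, hback⟩ := exists_move hP hr hp hpA hq (four_central hP hb) hwb
  obtain ⟨p₀, hp₀, hp₀A, q₀, hq₀, e₀⟩ := invol_coord hP hzS
    (by rw [conj_mul, hP.d₁.zc_sq, mul_one, mul_inv_cancel]) hnc
  have hq₀1 : q₀ = 1 := by
    by_contra h
    exact norm_ne hP hr hN hp₀ hp₀A hq₀ h (e₀ ▸ isConj_conj.symm)
  rw [hq₀1, mul_one] at e₀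
  -- the elements of the centraliser in the class of `z * b`
  have hPE := cent_prod hP hr hp hpA hq
  have hclaim : ∀ e ∈ S, Commute e (p * q) → IsConj e (z * b) →
      ∃ f ∈ dih b y, f ≠ 1 ∧ e = z * f := by
    intro e heS hec hez
    obtain ⟨k', hk', w, hw, rfl⟩ := hPE.exists_coord
      (show e ∈ (S : Subgroup G) ⊓ centralizer {p * q} from
        ⟨heS, mem_centralizer_singleton_iff.2 hec.eq⟩)
    rcases hPE.d₁.four_cases hk' with rfl | rfl | rfl | rfl
    · exfalso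
      rw [one_mul] at hez
      by_cases hw1 : w = 1
      · subst hw1
        refine ne_one_of_isConj hez.symm (fun h => ?_) rfl
        exact zc_ne_four hP hb (r := r)
          ((eq_inv_of_mul_eq_one_left h).trans (inv_eq_of_mul_eq_one_right (hP.d₂.four_sq hb)))
      · exact hne ((conj_b hP hr hN hm hodd hm1 hm2 hw hw1).1.symm.trans hez)
    · by_cases hw1 : w = 1
      · exfalso
        rw [hw1, mul_one] at hez
        exact hne2 hez.symm
      · exact ⟨w, hw, hw1, rfl⟩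
    · exfalso
      by_cases hw1 : w = 1
      · rw [hw1, mul_one] at hez
        exact hne2 (hez.symm.trans (hN _ hp hpA))
      · exact hne ((orbit hP hr hN hm hodd hm1 hm2 hp hpA hq hq1 hwb hw hw1).1.symm.trans hez)
    · exfalso
      by_cases hw1 : w = 1
      · rw [hw1, mul_one] at hez
        have h3 := refl_shift hP hr hp hpA (one_mem (dih b y))
        rw [mul_one, mul_one] at h3
        exact hne2 (hez.symm.trans (h3.symm.trans (hN _ hp hpA)))
      · exact hne ((orbit hP hr hN hm hodd hm1 hm2 hp hpA hq hq1 hwb hw hw1).2.symm.trans hez)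
  have hzf : ∀ f ∈ dih b y, f ≠ 1 → g * (z * f) * g⁻¹ ∈ S ∧
      IsConj (g * (z * f) * g⁻¹) (z * b) := fun f hf hf1 =>
    ⟨hgS _ (cen_mul_zc hP hf).1 ((cen_mul_zc hP hf).2 _ (hP.mem_mul hp hq)),
      isConj_conj.symm.trans (conj_b hP hr hN hm hodd hm1 hm2 hf hf1).2⟩
  obtain ⟨f, hf, hf1, hfnc⟩ : ∃ f ∈ dih b y, f ≠ 1 ∧ ¬ Cen S (g * (z * f) * g⁻¹) := by
    by_contra hcon
    have hall : ∀ f ∈ dih b y, f ≠ 1 → Cen S (g * (z * f) * g⁻¹) := fun f hf hf1 => by
      by_contra h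
      exact hcon ⟨f, hf, hf1, h⟩
    have hy : y ∈ dih b y := IsDih.x_mem
    have hy1 : y ≠ 1 := fun e1 => hP.d₂.nmem (e1 ▸ one_mem _)
    have hby1 : b * y ≠ 1 := fun e1 => hP.d₂.nmem (by
      rw [eq_inv_of_mul_eq_one_right e1]; exact inv_mem (mem_zpowers b))
    have h3 : z * b * (z * y) * (z * (b * y)) = z := by
      have hzz := hP.d₁.zc_sq (r := r)
      rw [hP.mul (IsDih.le_left IsDih.zc_mem) hb, hzz, one_mul,
        ← mul_assoc (b * y), (hP.comm (IsDih.le_left IsDih.zc_mem) (mul_mem hb hy)).symm.eq,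
        mul_assoc, hP.d₂.four_sq (mul_mem hb hy), mul_one]
    refine hnc ?_
    rw [show g * z * g⁻¹ = g * (z * b) * g⁻¹ * (g * (z * y) * g⁻¹) * (g * (z * (b * y)) * g⁻¹) by
      rw [conj_mul, conj_mul, h3]]
    refine ⟨mul_mem (mul_mem (hall b hb hb1).1 (hall y hy hy1).1)
      (hall _ (mul_mem hb hy) hby1).1, fun s hs => ?_⟩
    exact (((hall b hb hb1).2 s hs).mul_left ((hall y hy hy1).2 s hs)).mul_left
      ((hall _ (mul_mem hb hy) hby1).2 s hs)
  obtain ⟨hfS, hfc⟩ := hzf f hf hf1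
  have hcomm : Commute (g * (z * f) * g⁻¹) p₀ := by
    rw [← e₀]
    exact ((cen_zc hP).2 _ (cen_mul_zc hP hf).1).symm.map (MulAut.conj g)
  obtain ⟨p₁, hp₁, w, hw, e₁⟩ := (cent_prod hP hr hp₀ hp₀A (one_mem _)).exists_coord
    (show g * (z * f) * g⁻¹ ∈ (S : Subgroup G) ⊓ centralizer {p₀ * 1} from
      ⟨hfS, mem_centralizer_singleton_iff.2 (by rw [mul_one]; exact hcomm.eq)⟩)
  rw [e₁] at hfc hfnc
  have hw1 : w ≠ 1 := fun e2 => by
    rw [e2, mul_one] at hfc hfnc
    rcases (cent_prod hP hr hp₀ hp₀A (one_mem _)).d₁.four_cases hp₁ with rfl | rfl | rfl | rfl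
    · exact hfnc (four_central hP (one_mem _))
    · exact hfnc (cen_zc hP)
    · exact hne2 (hfc.symm.trans (hN _ hp₀ hp₀A))
    · have h3 := refl_shift hP hr hp₀ hp₀A (one_mem (dih b y))
      rw [mul_one, mul_one] at h3
      exact hne2 (hfc.symm.trans (h3.symm.trans (hN _ hp₀ hp₀A)))
  have hp₀b : IsConj (p₀ * b) (z * b) := by
    rcases (cent_prod hP hr hp₀ hp₀A (one_mem _)).d₁.four_cases hp₁ with rfl | rfl | rfl | rfl
    · exact absurd (by rw [one_mul]; exact four_central hP hw) hfnc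
    · exact absurd (cen_mul_zc hP hw) hfnc
    · exact (orbit hP hr hN hm hodd hm1 hm2 hp₀ hp₀A hw hw1 hfc hb hb1).1
    · exact (orbit hP hr hN hm hodd hm1 hm2 hp₀ hp₀A hw hw1
        ((refl_shift hP hr hp₀ hp₀A hw).trans hfc) hb hb1).1
  have hp₀comm : Commute (p₀ * b) (g * zc a r * g⁻¹) := by
    rw [e₀]
    exact (Commute.refl p₀).mul_left (hP.comm hp₀ hb).symm
  obtain ⟨e1, he1S, he1c, he1⟩ := hback (z * b) (cen_mul_zc hP hb).1
    ((cen_mul_zc hP hb).2 _ hzS)
  obtain ⟨e2, he2S, he2c, he2⟩ := hback (p₀ * b) (hP.mem_mul hp₀ hb) hp₀comm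
  obtain ⟨fA, hfA, -, rfl⟩ := hclaim e1 he1S he1c (he1 ▸ isConj_conj)
  obtain ⟨fB, hfB, -, rfl⟩ := hclaim e2 he2S he2c ((he2 ▸ isConj_conj : IsConj _ _).trans hp₀b)
  have h3 : IsConj (fA * fB) (z * p₀) := by
    refine isConj_iff.2 ⟨g, ?_⟩
    have h4 : z * fA * (z * fB) = fA * fB := by
      rw [hP.mul (IsDih.le_left IsDih.zc_mem) hfA, hP.d₁.zc_sq, one_mul]
    rw [← h4, ← conj_mul, he1, he2, hP.mul hp₀ hb, hP.d₂.four_sq hb, mul_one]
  refine not_conj_zc hP hr (mul_mem hfA hfB) (h3.trans ?_)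
  have h5 := refl_shift hP hr hp₀ hp₀A (one_mem (dih b y))
  rw [mul_one, mul_one] at h5
  exact h5.symm.trans (hN _ hp₀ hp₀A)

end

/-- In the case of a four group factor a suitable factorisation is strongly closed. -/
theorem four_case (h2 : ∀ N : Subgroup G, N.Normal → N.index ≠ 2)
    (hP : IsProd (S : Subgroup G) a x r b y 1) (hr : 2 ≤ r) :
    ∃ a' x' b' y' : G, IsProd (S : Subgroup G) a' x' r b' y' 1 ∧
      Cfsg.IsStronglyClosed (dih a' x') (S : Subgroup G) ∧
      Cfsg.IsStronglyClosed (dih b' y') (S : Subgroup G) := by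
  obtain ⟨a', x', hP', hN⟩ := exists_norm_four hP hr h2
  obtain ⟨b', y', m, hP'', hm, hodd, hm1, hm2⟩ := exists_triangle hP' hr hN h2
  exact ⟨a', x', b', y', hP'',
    stronglyClosed_of_table hP'' (table_dihedral hP'' hr hN),
    stronglyClosed_of_table hP''.symm (table_four hP'' hr hN hm hodd hm1 hm2 h2)⟩

end CfsgLib.LocalEven.DihedralProduct
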