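import Cfsg.Agent.Lib.LocalEven.DihedralProduct.Big

/-!
# A dihedral factor of order at least eight and a four group: involutions
-/

set_option autoImplicit false
set_option linter.unusedSectionVars false

namespace CfsgLib.LocalEven.DihedralProduct

open Subgroup

variable {G : Type*} [Group G] [Finite G] {S : Sylow 2 G}
  {a x : G} {r : ℕ} {b y : G}

namespace IsDih

/-- The elements of a four group. -/
theorem four_cases {b y : G} (h : IsDih b y 1) {k : G} (hk : k ∈ dih b y) :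
    k = 1 ∨ k = b ∨ k = y ∨ k = b * y := by
  have hb : b * b = 1 := by
    have := h.pow_eq_one (mem_zpowers b)
    rwa [pow_one, pow_two] at this
  rcases h.mem_cases hk with h1 | h1 <;> rcases eq_one_or_of_mem_zpowers' hb h1 with e | e
  · exact Or.inl e
  · exact Or.inr (Or.inl e)
  · exact Or.inr (Or.inr (Or.inl (by rw [← h.xinv, eq_inv_of_mul_eq_one_right e])))
  · refine Or.inr (Or.inr (Or.inr ?_))
    rw [(h.comm_of_one a_mem x_mem).eq]
    calc k = y * (y * k) := by rw [← mul_assoc, h.sq, one_mul]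
      _ = y * b := by rw [e]

theorem four_sq {b y : G} (h : IsDih b y 1) {k : G} (hk : k ∈ dih b y) : k * k = 1 := by
  by_cases hkA : k ∈ zpowers b
  · have := h.pow_eq_one hkA
    rwa [pow_one, pow_two] at this
  · exact h.refl_sq hk hkA

theorem zc_one {b y : G} (_h : IsDih b y 1) : zc b 1 = b := by simp [zc]

theorem of_four {u v : G} (hu : u * u = 1) (hu1 : u ≠ 1) (hv : v * v = 1) (hv1 : v ≠ 1)
    (huv : u ≠ v) (hc : Commute u v) : IsDih u v 1 := by
  refine ⟨?_, le_rfl, hv, ?_, fun h => ?_⟩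
  · rw [pow_one]
    exact orderOf_eq_prime (by rw [pow_two, hu]) hu1
  · rw [hc.symm.eq, mul_inv_cancel_right, inv_eq_of_mul_eq_one_right hu]
  · rcases eq_one_or_of_mem_zpowers' hu h with e | e
    exacts [hv1 e, huv e.symm]

end IsDih

theorem IsProd.card {H : Subgroup G} {a₁ x₁ : G} {r₁ : ℕ} {a₂ x₂ : G} {r₂ : ℕ}
    (h : IsProd H a₁ x₁ r₁ a₂ x₂ r₂) :
    Nat.card H = Nat.card (dih a₁ x₁) * Nat.card (dih a₂ x₂) := by
  rw [← Nat.card_prod]
  refine (Nat.card_congr (Equiv.ofBijective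
    (fun pq : dih a₁ x₁ × dih a₂ x₂ => (⟨pq.1 * pq.2, h.mem_mul pq.1.2 pq.2.2⟩ : H))
    ⟨fun pq pq' e => ?_, fun s => ?_⟩)).symm
  · obtain ⟨e1, e2⟩ := h.coord_unique pq.1.2 pq'.1.2 pq.2.2 pq'.2.2 (Subtype.ext_iff.1 e)
    exact Prod.ext (Subtype.ext e1) (Subtype.ext e2)
  · obtain ⟨p, hp, q, hq, e⟩ := h.exists_coord s.2
    exact ⟨(⟨p, hp⟩, ⟨q, hq⟩), Subtype.ext e.symm⟩

/-- Central elements of the Sylow subgroup. -/
def Cen (S : Sylow 2 G) (t : G) : Prop := t ∈ S ∧ ∀ s ∈ S, Commute t s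

section

variable (hP : IsProd (S : Subgroup G) a x r b y 1)

include hP

theorem four_central {q : G} (hq : q ∈ dih b y) : Cen S q := by
  refine ⟨hP.le₂ hq, fun s hs => ?_⟩
  obtain ⟨p', hp', q', hq', rfl⟩ := hP.exists_coord hs
  exact (hP.comm hp' hq).symm.mul_right (hP.d₂.comm_of_one hq hq')

theorem cen_zc : Cen S (zc a r) := ⟨hP.zc₁_mem, fun _ hs => hP.zc₁_central hs⟩

theorem cen_mul_zc {q : G} (hq : q ∈ dih b y) : Cen S (zc a r * q) :=
  ⟨mul_mem hP.zc₁_mem (hP.le₂ hq),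
    fun s hs => (hP.zc₁_central hs).mul_left ((four_central hP hq).2 s hs)⟩

theorem cen_cases (hr : 2 ≤ r) {t : G} (ht : Cen S t) :
    ∃ c q : G, q ∈ dih b y ∧ (c = 1 ∨ c = zc a r) ∧ t = c * q := by
  obtain ⟨p, hp, q, hq, rfl⟩ := hP.exists_coord ht.1
  have hpa := (hP.coord_comm hp (IsDih.a_mem (x := x)) hq (one_mem _)
    (by simpa using ht.2 a (hP.le₁ IsDih.a_mem))).1
  have hpx := (hP.coord_comm hp (IsDih.x_mem (a := a)) hq (one_mem _)
    (by simpa using ht.2 x (hP.le₁ IsDih.x_mem))).1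
  have hpA := hP.d₁.rot_of_commute hp (mem_zpowers a) (hP.d₁.sq_a_ne hr) hpa
  have hpp : p * p = 1 := by
    have h1 := hP.d₁.x_conj hpA
    rw [hpx.symm.eq, mul_inv_cancel_right] at h1
    exact mul_eq_one_iff_eq_inv.2 h1
  exact ⟨p, q, hq, hP.d₁.eq_one_or_zc hpA hpp, rfl⟩

theorem cen_sq (hr : 2 ≤ r) {t : G} (ht : Cen S t) : t * t = 1 := by
  obtain ⟨c, q, hq, hc, rfl⟩ := cen_cases hP hr ht
  rcases hc with rfl | rfl
  · rw [one_mul]; exact hP.d₂.four_sq hq
  · rw [hP.sq (IsDih.le_left IsDih.zc_mem) hq, hP.d₁.zc_sq, hP.d₂.four_sq hq, one_mul]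

theorem cen_of_rot {p q : G} (hp : p ∈ zpowers a) (hpp : p * p = 1) (hq : q ∈ dih b y) :
    Cen S (p * q) := by
  rcases hP.d₁.eq_one_or_zc hp hpp with rfl | rfl
  · rw [one_mul]; exact four_central hP hq
  · exact cen_mul_zc hP hq

theorem not_cen_of_refl (hr : 2 ≤ r) {p q : G} (hp : p ∈ dih a x) (hpA : p ∉ zpowers a)
    (hq : q ∈ dih b y) : ¬ Cen S (p * q) := fun h => by
  obtain ⟨c, w, hw, hc, e⟩ := cen_cases hP hr h
  have hcA : c ∈ zpowers a := by
    rcases hc with rfl | rfl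
    exacts [one_mem _, IsDih.zc_mem]
  exact hpA ((hP.coord_unique hp (IsDih.le_left hcA) hq hw e).1 ▸ hcA)

theorem zc_ne_four {q : G} (hq : q ∈ dih b y) : zc a r ≠ q := fun e =>
  hP.d₁.zc_ne (r := r) (hP.eq_one (IsDih.le_left IsDih.zc_mem) (e ▸ hq))

theorem norm_fix_four (hr : 2 ≤ r) {n : G}
    (hn : n ∈ normalizer ((S : Subgroup G) : Set G)) : n * zc a r * n⁻¹ = zc a r := by
  obtain ⟨ρ, hρ, he, -⟩ := hP.d₁.exists_root hr
  have hmem : n * ρ * n⁻¹ ∈ S := (mem_normalizer_iff.1 hn ρ).1 (hP.le₁ (IsDih.le_left hρ))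
  obtain ⟨p, hp, q, hq, e⟩ := hP.exists_coord hmem
  have h1 : n * zc a r * n⁻¹ = p * p := by
    rw [← he, ← conj_mul, e, hP.sq hp hq, hP.d₂.four_sq hq, mul_one]
  rw [h1]
  refine (hP.d₁.eq_one_or_zc (hP.d₁.sq_rot hp) ?_).resolve_left fun h2 => hP.d₁.zc_ne (r := r) ?_
  · rw [← h1, conj_mul, hP.d₁.zc_sq, mul_one, mul_inv_cancel]
  · rwa [h2, conj_eq_one_iff] at h1

theorem eq_zc (hr : 2 ≤ r) {t : G} (ht : Cen S t) (h : IsConj t (zc a r)) : t = zc a r := by
  obtain ⟨m, hm, -, e⟩ := central_conj S (cen_zc hP).2 ht.2 h.symm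
  rw [← e, norm_fix_four hP hr hm]

theorem not_conj_zc (hr : 2 ≤ r) {q : G} (hq : q ∈ dih b y) : ¬ IsConj q (zc a r) := fun h =>
  zc_ne_four hP hq (eq_zc hP hr (four_central hP hq) h).symm

theorem not_conj_twin (hr : 2 ≤ r) {t : G} (ht : Cen S t) : ¬ IsConj t (zc a r * t) := fun h => by
  have hzt : ∀ s ∈ S, Commute (zc a r * t) s := fun s hs =>
    (hP.zc₁_central hs).mul_left (ht.2 s hs)
  obtain ⟨m, hm, hodd, e⟩ := central_conj S ht.2 hzt h
  have e' : m * (zc a r * t) * m⁻¹ = t := by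
    rw [← conj_mul, norm_fix_four hP hr hm, e, ← mul_assoc, hP.d₁.zc_sq, one_mul]
  exact hP.d₁.zc_ne (r := r) (mul_right_cancel (b := t)
    (by rw [one_mul]; exact (eq_of_odd_swap hodd e e').symm))

/-- The conjugation by a square root of the central rotation. -/
theorem refl_shift (hr : 2 ≤ r) {p q : G} (hp : p ∈ dih a x) (hpA : p ∉ zpowers a)
    (hq : q ∈ dih b y) : IsConj (p * q) (zc a r * p * q) := by
  obtain ⟨ρ, hρ, hρe, -⟩ := hP.d₁.exists_root hr
  refine isConj_iff.2 ⟨ρ, ?_⟩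
  rw [← conj_mul (b := ρ) (a := p) (c := q), hP.d₁.refl_conj_root hp hpA hρ hρe,
    (hP.comm (IsDih.le_left hρ) hq).eq, mul_inv_cancel_right]

theorem refl_shift' (hr : 2 ≤ r) {p q : G} (hp : p ∈ dih a x) (hpA : p ∉ zpowers a)
    (hq : q ∈ dih b y) : IsConj (p * q) (p * q * zc a r) := by
  rw [((hP.zc₁_central (hP.mem_mul hp hq))).symm.eq, ← mul_assoc]
  exact refl_shift hP hr hp hpA hq

/-- Every involution is conjugate to a central one. -/
theorem exists_central_conj (hr : 2 ≤ r) (h2 : ∀ N : Subgroup G, N.Normal → N.index ≠ 2)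
    {p q : G} (hp : p ∈ dih a x) (hpA : p ∉ zpowers a) (hq : q ∈ dih b y) :
    ∃ c, Cen S c ∧ IsConj (p * q) c := by
  have hn : dih b y ≤ normalizer (zpowers a : Set G) :=
    Subgroup.le_normalizer_iff.2 fun d hd k hk => by
      rwa [(hP.comm (IsDih.le_left hk) hd).symm.eq, mul_inv_cancel_right]
  have hu : (p * q) * (p * q) = 1 := by
    rw [hP.sq hp hq, hP.d₁.refl_sq hp hpA, hP.d₂.four_sq hq, one_mul]
  have huQ : p * q ∉ zpowers a ⊔ dih b y := fun hmem => by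
    obtain ⟨c, hc, w, hw, he⟩ := (Coprime.mem_sup_of_le_normalizer hn).1 hmem
    exact hpA ((hP.coord_unique (IsDih.le_left hc) hp hw hq he).1 ▸ hc)
  obtain ⟨M, hM, hMi, -⟩ | ⟨g, hg⟩ :=
    Fusion.ThompsonTransfer.thompson_transfer S _
      (sup_le (IsDih.le_left.trans hP.le₁) hP.le₂) hP.rot_relIndex (p * q) (by rw [pow_two, hu])
      (hP.mem_mul hp hq) huQ
  · exact absurd hMi (h2 M hM)
  obtain ⟨c, hc, w, hw, he⟩ := (Coprime.mem_sup_of_le_normalizer hn).1 hg
  refine ⟨c * w, cen_of_rot hP hc ?_ hw, he ▸ isConj_conj⟩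
  exact (hP.coord_sq (IsDih.le_left hc) hw
    (by rw [he, conj_mul, hu, mul_one, mul_inv_cancel])).1

/-- The centraliser in `S` of a non-central involution. -/
theorem cent_prod (hr : 2 ≤ r) {p q : G} (hp : p ∈ dih a x) (hpA : p ∉ zpowers a)
    (hq : q ∈ dih b y) :
    IsProd ((S : Subgroup G) ⊓ centralizer {p * q}) (zc a r) p 1 b y 1 := by
  have hle : ∀ k ∈ dih (zc a r) p, k ∈ dih a x := fun k hk =>
    (sup_le (zpowers_le.2 (IsDih.le_left IsDih.zc_mem)) (zpowers_le.2 hp) :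
      dih (zc a r) p ≤ dih a x) hk
  have hd : IsDih (zc a r) p 1 := by
    refine IsDih.of_four hP.d₁.zc_sq hP.d₁.zc_ne (hP.d₁.refl_sq hp hpA)
      (fun e => hpA (e ▸ one_mem _)) (fun e => hpA (e ▸ IsDih.zc_mem)) ?_
    exact hP.zc₁_central (hP.le₁ hp)
  have hcd : ∀ k ∈ dih (zc a r) p, ∀ w ∈ dih b y, Commute k w :=
    fun k hk w hw => hP.comm (hle k hk) hw
  refine ⟨hd, hP.d₂, ?_, ?_, fun k hk w hw => hcd k hk w hw, ?_, ?_⟩
  · intro k hk
    refine ⟨hP.le₁ (hle k hk), mem_centralizer_singleton_iff.2 ?_⟩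
    exact ((hd.comm_of_one hk IsDih.x_mem).mul_right (hcd k hk q hq)).eq
  · intro w hw
    exact ⟨hP.le₂ hw,
      mem_centralizer_singleton_iff.2 ((four_central hP hw).2 _ (hP.mem_mul hp hq)).eq⟩
  · refine eq_bot_iff.2 fun k hk => ?_
    obtain ⟨h1, h3⟩ := mem_inf.1 hk
    rw [Subgroup.mem_bot]
    exact hP.eq_one (hle k h1) h3
  · refine le_antisymm (sup_le ?_ ?_) fun e he => ?_
    · intro k hk
      exact ⟨hP.le₁ (hle k hk), mem_centralizer_singleton_iff.2
        ((hd.comm_of_one hk IsDih.x_mem).mul_right (hcd k hk q hq)).eq⟩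
    · intro w hw
      exact ⟨hP.le₂ hw,
        mem_centralizer_singleton_iff.2 ((four_central hP hw).2 _ (hP.mem_mul hp hq)).eq⟩
    obtain ⟨heS, hec⟩ := mem_inf.1 he
    obtain ⟨k, hk, w, hw, rfl⟩ := hP.exists_coord heS
    have hkp := (hP.coord_comm hk hp hw hq (mem_centralizer_singleton_iff.1 hec)).1
    refine mul_mem_sup ?_ hw
    by_cases hkA : k ∈ zpowers a
    · have hkk : k * k = 1 := by
        have h1 := hP.d₁.refl_conj hp hpA hkA
        rw [hkp.symm.eq, mul_inv_cancel_right] at h1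
        exact mul_eq_one_iff_eq_inv.2 h1
      rcases hP.d₁.eq_one_or_zc hkA hkk with rfl | rfl
      exacts [one_mem _, IsDih.a_mem]
    · have h1 : p * k ∈ zpowers a := hP.d₁.refl_mul_refl hp hpA hk hkA
      have h3 : (p * k) * (p * k) = 1 := by
        rw [hkp.mul_mul_mul_comm, hP.d₁.refl_sq hp hpA, hP.d₁.refl_sq hk hkA, one_mul]
      have hk' : k = p * (p * k) := by rw [← mul_assoc, hP.d₁.refl_sq hp hpA, one_mul]
      rw [hk']
      refine mul_mem IsDih.x_mem ?_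
      rcases hP.d₁.eq_one_or_zc h1 h3 with e | e <;> rw [e]
      exacts [one_mem _, IsDih.a_mem]

theorem cent_card (hr : 2 ≤ r) {p q : G} (hp : p ∈ dih a x) (hpA : p ∉ zpowers a)
    (hq : q ∈ dih b y) :
    Nat.card ↥((S : Subgroup G) ⊓ centralizer {p * q}) = 16 := by
  have h := cent_prod hP hr hp hpA hq
  rw [h.card, h.d₁.card, h.d₂.card]
  norm_num

/-- An involution which is not central has a reflection as first coordinate. -/
theorem invol_coord {t : G} (ht : t ∈ S) (h2 : t * t = 1) (hc : ¬ Cen S t) :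
    ∃ p ∈ dih a x, p ∉ zpowers a ∧ ∃ q ∈ dih b y, t = p * q := by
  obtain ⟨p, hp, q, hq, rfl⟩ := hP.exists_coord ht
  exact ⟨p, hp, fun hpA => hc (cen_of_rot hP hpA (hP.coord_sq hp hq h2).1 hq), q, hq, rfl⟩

/-- For a non-central involution `p * q`: a conjugating element to the centre, carrying the
centraliser onto the centraliser of a non-central conjugate of the central rotation. -/
theorem exists_move (hr : 2 ≤ r) {p q c : G} (hp : p ∈ dih a x) (hpA : p ∉ zpowers a)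
    (hq : q ∈ dih b y) (hc : Cen S c) (h : IsConj (p * q) c) :
    ∃ g : G, g * (p * q) * g⁻¹ = c ∧ ¬ Cen S (g * zc a r * g⁻¹) ∧ g * zc a r * g⁻¹ ∈ S ∧
      (∀ e ∈ S, Commute e (p * q) → g * e * g⁻¹ ∈ S) ∧
      ∀ d ∈ S, Commute d (g * zc a r * g⁻¹) →
        ∃ e ∈ S, Commute e (p * q) ∧ g * e * g⁻¹ = d := by
  obtain ⟨g, hg, hgS⟩ := transport S hc.2 h
  have hpq : p * q ∈ S := hP.mem_mul hp hq
  have hzS := hgS _ hP.zc₁_mem (hP.zc₁_central hpq)
  have hnc : ¬ Cen S (g * zc a r * g⁻¹) := fun hcen => by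
    have e := eq_zc hP hr hcen isConj_conj.symm
    have h1 : IsConj c (zc a r * c) := by
      have h3 : IsConj c (c * zc a r) := (hg ▸ isConj_conj : IsConj (p * q) c).symm.trans
        ((refl_shift' hP hr hp hpA hq).trans (isConj_iff.2 ⟨g, by rw [← conj_mul, hg, e]⟩))
      rwa [(hc.2 _ hP.zc₁_mem).eq] at h3
    exact not_conj_twin hP hr hc h1
  refine ⟨g, hg, hnc, hzS, hgS, ?_⟩
  obtain ⟨p', hp', hpA', q', hq', he⟩ := invol_coord hP hzS
    (by rw [conj_mul, hP.d₁.zc_sq, mul_one, mul_inv_cancel]) hnc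
  have hmap : ((S : Subgroup G) ⊓ centralizer {p * q}).map (MulAut.conj g).toMonoidHom =
      (S : Subgroup G) ⊓ centralizer {g * zc a r * g⁻¹} := by
    refine eq_of_le_of_card_ge ?_ ?_
    · rintro _ ⟨e, ⟨he1, he2⟩, rfl⟩
      refine ⟨hgS e he1 (mem_centralizer_singleton_iff.1 he2), mem_centralizer_singleton_iff.2 ?_⟩
      exact ((hP.zc₁_central he1).symm.map (MulAut.conj g)).eq
    · rw [he, cent_card hP hr hp' hpA' hq',
        card_map_of_injective (MulAut.conj g).injective, cent_card hP hr hp hpA hq]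
  intro d hd hdc
  have : d ∈ ((S : Subgroup G) ⊓ centralizer {p * q}).map (MulAut.conj g).toMonoidHom := by
    rw [hmap]
    exact ⟨hd, mem_centralizer_singleton_iff.2 hdc.eq⟩
  obtain ⟨e, ⟨he1, he2⟩, rfl⟩ := this
  exact ⟨e, he1, mem_centralizer_singleton_iff.1 he2, rfl⟩

/-- Each reflection times some element of the four group is conjugate to the central rotation. -/
theorem exists_conj_zc (hr : 2 ≤ r) (h2 : ∀ N : Subgroup G, N.Normal → N.index ≠ 2)
    {p : G} (hp : p ∈ dih a x) (hpA : p ∉ zpowers a) :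
    ∃ q ∈ dih b y, IsConj (p * q) (zc a r) := by
  obtain ⟨c, hc, hpc⟩ := exists_central_conj hP hr h2 hp hpA (one_mem _)
  obtain ⟨g, hg, hnc, hzS, hgS, hback⟩ := exists_move hP hr hp hpA (one_mem _) hc hpc
  obtain ⟨e, heS, hec, he⟩ := hback _ hP.zc₁_mem (hP.zc₁_central hzS)
  have hez : IsConj e (zc a r) := he ▸ isConj_conj
  have henc : ¬ Cen S e := fun hcen => by
    have e1 := eq_zc hP hr hcen hez
    rw [e1] at he
    rw [he] at hnc
    exact hnc (cen_zc hP)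
  have he' : e ∈ (S : Subgroup G) ⊓ centralizer {p * 1} :=
    ⟨heS, mem_centralizer_singleton_iff.2 hec.eq⟩
  have hP' := cent_prod hP hr hp hpA (one_mem (dih b y))
  obtain ⟨k, hk, w, hw, rfl⟩ := hP'.exists_coord he'
  refine ⟨w, hw, ?_⟩
  rcases hP'.d₁.four_cases hk with rfl | rfl | rfl | rfl
  · exact absurd (by rw [one_mul]; exact four_central hP hw) henc
  · exact absurd (cen_mul_zc hP hw) henc
  · exact hez
  · exact (refl_shift hP hr hp hpA hw).trans hez

/-- The conjugacy class of a conjugate of the central rotation times an element of the four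
group. -/
theorem dichotomy (hr : 2 ≤ r) {p q f : G} (hp : p ∈ dih a x) (hpA : p ∉ zpowers a)
    (hq : q ∈ dih b y) (hf : f ∈ dih b y) (h : IsConj (p * q) (zc a r)) :
    IsConj (p * q * f) f ∨ IsConj (p * q * f) (zc a r * f) := by
  obtain ⟨g, hg, hgS⟩ := transport S (cen_zc hP).2 h
  set f' := g * f * g⁻¹ with hf'
  have hfS : f' ∈ S := hgS f (hP.le₂ hf) ((four_central hP hf).2 _ (hP.mem_mul hp hq))
  have h1 : IsConj (p * q * f) (zc a r * f') := isConj_iff.2 ⟨g, by rw [← conj_mul, hg]⟩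
  by_cases hcf : Cen S f'
  · refine Or.inr (h1.trans ?_)
    obtain ⟨m, hm, -, e⟩ := central_conj S (four_central hP hf).2 hcf.2 isConj_conj
    refine (isConj_iff.2 ⟨m, ?_⟩ : IsConj (zc a r * f) (zc a r * f')).symm
    rw [← conj_mul, norm_fix_four hP hr hm, e]
  · refine Or.inl (h1.trans ?_)
    obtain ⟨p', hp', hpA', q', hq', e⟩ := invol_coord hP hfS
      (by rw [hf', conj_mul, hP.d₂.four_sq hf, mul_one, mul_inv_cancel]) hcf
    refine IsConj.trans ?_ (isConj_conj (u := f) (g := g)).symm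
    rw [← hf', e, ← mul_assoc]
    exact (refl_shift hP hr hp' hpA' hq').symm

theorem not_conj_zc_of_ne (hr : 2 ≤ r) {p q f : G} (hp : p ∈ dih a x) (hpA : p ∉ zpowers a)
    (hq : q ∈ dih b y) (hf : f ∈ dih b y) (hf1 : f ≠ 1) (h : IsConj (p * q) (zc a r)) :
    ¬ IsConj (p * q * f) (zc a r) := fun h' => by
  rcases dichotomy hP hr hp hpA hq hf h with h1 | h1
  · exact not_conj_zc hP hr hf (h1.symm.trans h')
  · have := eq_zc hP hr (cen_mul_zc hP hf) (h1.symm.trans h')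
    exact hf1 (mul_left_cancel (a := zc a r) (by rw [this, mul_one]))

/-- Normalisation of the dihedral factor. -/
theorem exists_norm_four (hr : 2 ≤ r) (h2 : ∀ N : Subgroup G, N.Normal → N.index ≠ 2) :
    ∃ a' x' : G, IsProd (S : Subgroup G) a' x' r b y 1 ∧ Norm a' x' r := by
  obtain ⟨u, hu, hxu⟩ := exists_conj_zc hP hr h2 IsDih.x_mem hP.d₁.nmem
  obtain ⟨v, hv, hxav⟩ := exists_conj_zc hP hr h2 (mul_mem IsDih.x_mem IsDih.a_mem)
    (IsDih.mul_not_rot hP.d₁.nmem (mem_zpowers a))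
  obtain ⟨hP', hz⟩ := hP.twist hr hu hv (hP.d₂.four_sq hu) (hP.d₂.four_sq hv)
    (four_central hP hu).2 (four_central hP hv).2
  refine ⟨_, _, hP', fun p hp hpA => ?_⟩
  rw [hz]
  obtain ⟨c, -, h | h⟩ := hP'.d₁.refl_class hp hpA
  · exact (h ▸ isConj_conj : IsConj p (x * u)).trans hxu
  · refine (h ▸ isConj_conj : IsConj p _).trans ?_
    rwa [show x * u * (a * (u * v)) = x * a * v by
      rw [(hP.comm IsDih.a_mem hu).symm.mul_mul_mul_comm, ← mul_assoc u u v, hP.d₂.four_sq hu,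
        one_mul]]

theorem norm_ne (hr : 2 ≤ r) (hN : Norm a x r) {p f : G} (hp : p ∈ dih a x)
    (hpA : p ∉ zpowers a) (hf : f ∈ dih b y) (hf1 : f ≠ 1) : ¬ IsConj (p * f) (zc a r) := by
  have := not_conj_zc_of_ne hP hr hp hpA (one_mem _) hf hf1 (by rw [mul_one]; exact hN p hp hpA)
  rwa [mul_one] at this

theorem table_dihedral (hr : 2 ≤ r) (hN : Norm a x r) :
    Table (S : Subgroup G) (dih a x) := by
  intro k hk hk2 g hg
  by_cases hk1 : k = 1
  · rw [hk1, mul_one, mul_inv_cancel]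
    exact one_mem _
  have hkz : IsConj k (zc a r) := by
    by_cases hkA : k ∈ zpowers a
    · rw [(hP.d₁.eq_one_or_zc hkA hk2).resolve_left hk1]
    · exact hN k hk hkA
  have hwz : IsConj (g * k * g⁻¹) (zc a r) := isConj_conj.symm.trans hkz
  by_cases hcen : Cen S (g * k * g⁻¹)
  · rw [eq_zc hP hr hcen hwz]
    exact IsDih.le_left IsDih.zc_mem
  obtain ⟨p, hp, hpA, q, hq, e⟩ := invol_coord hP hg
    (by rw [conj_mul, hk2, mul_one, mul_inv_cancel]) hcen
  rw [e] at hwz ⊢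
  by_cases hq1 : q = 1
  · rw [hq1, mul_one]; exact hp
  · exact absurd hwz (norm_ne hP hr hN hp hpA hq hq1)

end

end CfsgLib.LocalEven.DihedralProduct
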